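import Cfsg.Agent.H95.Rg.RedH7
import Cfsg.Agent.H73.Rg.HMain
import Cfsg.Agent.H72.Same.Two
import Cfsg.Agent.H427.Rg.Aut

/-!
# Half classes in `E₇(q)` (helper95)

A subgroup of `E₇(q)` containing at least half of the two classes of one of the pairs `{9, 14}`, `{18, 7}`, `{18, 14}`,
`{9, 18}`, `{7, 14}` (in the last two cases also a primitive prime of class 5) is the whole group.
-/

set_option autoImplicit false

namespace Cfsg.Agent.H95.Rg

open Cfsg Cfsg.Agent.OrdDiv Cfsg.Agent.H436 Cfsg.Agent.H902 Cfsg.Agent.H902.Names Cfsg.Agent.H290.ElReg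
  Cfsg.Agent.H290.ElTab Cfsg.Agent.H56.Exc Cfsg.Agent.H325.Loc Cfsg.Agent.H915.GN Cfsg.Agent.H264.FKS
  Cfsg.Agent.H563.KG Cfsg.Agent.H325.Cov Cfsg.Agent.H325.Same Cfsg.Agent.H73.Rg Cfsg.Agent.H325.IsoExc
  Cfsg.Agent.H325.IsoFree

/-- the tables -/
def D9_14 : TD := ⟨.E7, 9, 14, 50, 6, 6, [], 2⟩
def D18_7 : TD := ⟨.E7, 18, 7, 50, 6, 6, [], 2⟩
def D18_14 : TD := ⟨.E7, 18, 14, 50, 6, 6, [], 2⟩
def D9_18 : TD := ⟨.E7, 9, 18, 50, 6, 6, [5], 2⟩
def D7_14 : TD := ⟨.E7, 7, 14, 200, 6, 6, [5], 2⟩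

/-- the exception -/
def ex113 : List (Art.Sh × ℕ × ℕ) := [(.L 2, (113, 1))]

theorem tblH_914 : TblH 133 D9_14 ex113 (E7 9) (E7 14) where
  hn := by norm_num
  ok := ⟨by decide, by decide, by decide, by decide, by decide +kernel, by decide +kernel, by decide, by decide⟩
  ne := by decide
  hR := by decide +kernel
  hS := by decide +kernel
  hE := by decide
  hE' := by decide
  hE30 := by decide
  hE30' := by decide
  hA := by decide +kernel

theorem tblH_187 : TblH 133 D18_7 [] (E7 18) (E7 7) where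
  hn := by norm_num
  ok := ⟨by decide, by decide, by decide, by decide, by decide +kernel, by decide +kernel, by decide, by decide⟩
  ne := by decide
  hR := by decide +kernel
  hS := by decide +kernel
  hE := by decide
  hE' := by decide
  hE30 := by decide
  hE30' := by decide
  hA := by decide +kernel

theorem tblH_1814 : TblH 133 D18_14 [] (E7 18) (E7 14) where
  hn := by norm_num
  ok := ⟨by decide, by decide, by decide, by decide, by decide +kernel, by decide +kernel, by decide, by decide⟩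
  ne := by decide
  hR := by decide +kernel
  hS := by decide +kernel
  hE := by decide
  hE' := by decide
  hE30 := by decide
  hE30' := by decide
  hA := by decide +kernel

theorem tblH_918 : TblH 133 D9_18 [] (E7 9) (E7 18) where
  hn := by norm_num
  ok := ⟨by decide, by decide, by decide, by decide, by decide +kernel, by decide +kernel, by decide, by decide⟩
  ne := by decide
  hR := by decide +kernel
  hS := by decide +kernel
  hE := by decide
  hE' := by decide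
  hE30 := by decide
  hE30' := by decide
  hA := by decide +kernel

theorem tblH_714 : TblH 133 D7_14 [] (E7 7) (E7 14) where
  hn := by norm_num
  ok := ⟨by decide, by decide, by decide, by decide, by decide +kernel, by decide +kernel, by decide, by decide⟩
  ne := by decide
  hR := by decide +kernel
  hS := by decide +kernel
  hE := by decide
  hE' := by decide
  hE30 := by decide
  hE30' := by decide
  hA := by decide +kernel

section

variable {F : Type} [Field F] [Fintype F] {p f : ℕ}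

/-- the characteristic -/
theorem charP_of (hp : p.Prime) (hf : 1 ≤ f) (hq : Fintype.card F = p ^ f) : CharP F p := by
  obtain ⟨p', f', h', hp', hf', hq'⟩ := exists_pf F
  have h1 : p ^ f = p' ^ f' := hq ▸ hq'
  have h2 : p ∣ p' ^ f' := h1 ▸ dvd_pow_self p (by omega)
  obtain rfl := (Nat.prime_dvd_prime_iff_eq hp hp').1 (hp.dvd_of_dvd_pow h2)
  exact h'

/-- the simple normal subgroup -/
theorem nameK7 (tb : OrderTable.{0}) (hcyc : CycFixSolv.{0}) (hcf : CF) (hp : p.Prime) (hf : 1 ≤ f)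
    (hq : Fintype.card F = p ^ f) {D : TD} {exc : List (Art.Sh × ℕ × ℕ)} (ht : TblH 133 D exc (E7 D.e) (E7 D.e'))
    (hDY : D.Y = .E7) (hq₀ : D.q₀ ≤ 2) (hcc : (D.e, D.e') ∈ prs5)
    {B : Subgroup ↥(Lie.chevE7.group F)} (h1 : HAt p f D.e B) (h2 : HAt p f D.e' B)
    (hsep : ∀ c ∈ [D.e, D.e'], ¬ Nat.card B ∣ E7 c * M7 (p ^ f) c)
    (hex : ∀ c ∈ D.exs, ∃ s, Prim p (f * c) s ∧ s ∣ Nat.card B ∧ ¬ s ∣ E7 D.e * M7 (p ^ f) D.e)
    (hexc : ∀ (S : Subgroup B), ConH p f (M7 (p ^ f)) E7 D.e D.e' S → ∀ g l X a, l.Prime → IsNamed g S →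
      IsLie g X l a → (X, (l, a)) ∈ exc → False) :
    ∃ S : Subgroup B, ConH p f (M7 (p ^ f)) E7 D.e D.e' S ∧ ∃ g, IsNamed g S ∧ HasChar p g ∧
      Nat.card S ∣ num (.e7 (p ^ f)) := by
  have := Fact.mk hp
  have hchar : CharP F p := charP_of hp hf hq
  have hfin : Finite ↥(Lie.chevE7.group F) := inferInstance
  have hT := named_e7 (F := F) tb
  rw [hq] at hT
  have hq2 : 2 ≤ p ^ f := hp.two_le.trans (Nat.le_self_pow (by omega) p)
  have hOL : num (.e7 (p ^ f)) = OL .E7 (p ^ f) := rfl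
  have hdT : Nat.card ↥(Lie.chevE7.group F) ∣ OL .E7 (p ^ f) := by
    rw [← hOL, ← hT.eq]
    exact Dvd.intro_left _ rfl
  have hcm : ((D.e = 7 ∨ D.e = 9 ∨ D.e = 14 ∨ D.e = 18) ∧ (D.e' = 7 ∨ D.e' = 9 ∨ D.e' = 14 ∨ D.e' = 18)) ∧
      (D.e = 18 ∨ D.e' = 14 ∨ D.e' = 18) := by
    have h1 : ∀ x ∈ prs5, ((x.1 = 7 ∨ x.1 = 9 ∨ x.1 = 14 ∨ x.1 = 18) ∧ (x.2 = 7 ∨ x.2 = 9 ∨ x.2 = 14 ∨ x.2 = 18)) ∧
      (x.1 = 18 ∨ x.2 = 14 ∨ x.2 = 18) := by
      decide
    exact h1 _ hcc
  have hmem : ∀ c ∈ [D.e, D.e'], c = 7 ∨ c = 9 ∨ c = 14 ∨ c = 18 := by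
    intro c hc
    simp only [List.mem_cons, List.not_mem_nil, or_false] at hc
    rcases hc with rfl | rfl
    · exact hcm.1.1
    · exact hcm.1.2
  have hbig : ∀ c ∈ [D.e, D.e'], ∀ r, Prim (p ^ f) c r → Big ↥(Lie.chevE7.group F) r (M7 (p ^ f) c) (E7 c) :=
    fun c hc r hr => big7 (hmem c hc) hq hr
  have hred : Red ↥B (Pr (FmH p f [D.e, D.e'] (M7 (p ^ f)) E7 (Nat.card B))) := by
    have key : ∀ c₀ ∈ [D.e, D.e'], HAt p f c₀ B → (c₀ = 14 ∨ c₀ = 18) →
        Red ↥B (Pr (FmH p f [D.e, D.e'] (M7 (p ^ f)) E7 (Nat.card B))) := by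
      intro c₀ hc₀ hH h3
      obtain ⟨r₀, hr₀, hr₀B⟩ := hH.exists_prim hp.two_le hf (by omega) (by omega)
      have hpiso : PIso p r₀ ↥(Lie.chevE7.group F) := by
        rcases h3 with rfl | rfl
        · exact piso_E7 (F := F) (by rw [hq]; exact prim_q hf hr₀)
        · exact piso_E7_18 (F := F) (by rw [hq]; exact prim_q hf hr₀)
      exact red7 hcyc hp hf hq hdT hcc h1 h2 hc₀ hr₀ hpiso hr₀B
    rcases hcm.2 with h3 | h3 | h3
    · exact key D.e (by simp) h1 (Or.inr h3)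
    · exact key D.e' (by simp) h2 (Or.inl h3)
    · exact key D.e' (by simp) h2 (Or.inr h3)
  obtain ⟨S, hS, g, hg, hch⟩ := mainR tb hcyc hcf (fun {S} _ _ {m r N e} h Φ h5 hd => Cfsg.Agent.H427.Rg.alt_aut h Φ h5 hd)
    ht hp hf (hq₀.trans hq2) (F := F) fth_E7 (by rw [hDY]; exact hdT) hbig h1 h2 hsep hex hred hexc
  exact ⟨S, hS, g, hg, hch, IsNamed.card_dvd hT S⟩

theorem e7_le_seven {c s : ℕ} (hs : s.Prime) (hd : s ∣ E7 c) : s ≤ 7 :=
  le_seven hs (n := E7 c) (by unfold E7; split <;> omega) hd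

theorem mem4 {c c' : ℕ} (hc : c = 7 ∨ c = 9 ∨ c = 14 ∨ c = 18) (hc' : c' = 7 ∨ c' = 9 ∨ c' = 14 ∨ c' = 18) :
    ∀ e ∈ [c, c'], e = 7 ∨ e = 9 ∨ e = 14 ∨ e = 18 := by
  intro e he
  simp only [List.mem_cons, List.not_mem_nil, or_false] at he
  rcases he with rfl | rfl
  · exact hc
  · exact hc'

/-- `L₂(113)` -/
theorem kill_113 (hp : p.Prime) {B : Subgroup ↥(Lie.chevE7.group F)}
    {S : Subgroup B} (hS : ConH p f (M7 (p ^ f)) E7 9 14 S) {g : Grp} {l a : ℕ} {X : Art.Sh} (hg : IsNamed g S)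
    (hX : IsLie g X l a) (hex : (X, (l, a)) ∈ ex113) : False := by
  simp only [ex113, List.mem_singleton, Prod.mk.injEq] at hex
  obtain ⟨rfl, rfl, rfl⟩ := hex
  cases hX
  have hcard : Nat.card S = 721392 := by
    have := hg.ord
    rw [this]
    decide +kernel
  obtain ⟨r, hr, hrS⟩ := hS.h1 14 (by simp)
  have hrp := hr.prime
  rw [hcard] at hrS
  have h14 : f * 14 ∣ r - 1 := mod_of_prim' hp.two_le hr
  have h14' : 14 ∣ r - 1 := (Dvd.intro_left _ rfl).trans h14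
  have hfac : (721392 : ℕ) = 2 ^ 4 * (3 * (7 * (19 * 113))) := by norm_num
  have hr2 := hrp.two_le
  have key : ∀ m, m.Prime → r ∣ m → r = m := fun m h1 h2 => (Nat.prime_dvd_prime_iff_eq hrp h1).1 h2
  obtain rfl : r = 113 := by
    rw [hfac] at hrS
    rcases hrp.dvd_mul.1 hrS with h | h
    · have := key 2 (by norm_num) (hrp.dvd_of_dvd_pow h)
      omega
    rcases hrp.dvd_mul.1 h with h | h
    · have := key 3 (by norm_num) h
      omega
    rcases hrp.dvd_mul.1 h with h | h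
    · have := key 7 (by norm_num) h
      omega
    rcases hrp.dvd_mul.1 h with h | h
    · have := key 19 (by norm_num) h
      omega
    · exact key 113 (by norm_num) h
  have hrS' : 113 ∣ Nat.card S := by rw [hcard]; exact hrS
  have hb := (hS.prs 14 (by simp) 113 hr (hrS'.trans (Subgroup.card_subgroup_dvd_card S))).1
  obtain ⟨K, _, _, hK, ⟨e⟩⟩ := hg.real
  have h1 := Cfsg.Agent.H427.Rg.psl_aut (l := 113) (by norm_num) (by norm_num) (F := K) (by rw [hK]; norm_num) e hb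
  have h2 : (113 - 1 : ℕ) ∣ 2 * 14 := h1
  exact absurd h2 (by decide)

variable (tb : OrderTable.{0}) (hcyc : CycFixSolv.{0}) (hcf : CF)

include tb hcyc hcf

/-- **`E₇(q)`, half of the classes 9, 14.** -/
theorem KH_9_14 (hp : p.Prime) (hf : 1 ≤ f) (hq : Fintype.card F = p ^ f)
    (B : Subgroup ↥(Lie.chevE7.group F)) (h : HOff p f [9, 14] B) : B = ⊤ := by
  have hq1 : 1 ≤ p ^ f := Nat.one_le_pow _ _ hp.pos
  have hT := named_e7 (F := F) tb
  rw [hq] at hT
  have h1 := h 9 (by simp)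
  have h2 := h 14 (by simp)
  have hsep : ∀ c ∈ [9, 14], ¬ Nat.card B ∣ E7 c * M7 (p ^ f) c :=
    sepH (e := 9) (e' := 14) hp hf (M := M7 (p ^ f)) (E := E7) (by norm_num) (by norm_num) h1 h2
      (fun c hc => m7_dvd (mem4 (by omega) (by omega) c hc) hq1) (fun c _ s hs hd => e7_le_seven hs hd)
      (by norm_num) (by norm_num)
  obtain ⟨S, hS, g, hg, hch, hdS⟩ := nameK7 tb hcyc hcf hp hf hq (D := D9_14) tblH_914 rfl (by decide) (by decide)
    (B := B) h1 h2 hsep
    (fun c hc => absurd hc (by simp [D9_14]))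
    (fun S hS g l X a _ hg hX hex => kill_113 hp hS hg hX hex)
  obtain rfl := Cfsg.Agent.H72.Same.charp_e7_914 hp hf hg.cond hch hg.eq hdS (hS.h1 9 (by simp [D9_14])) (hS.h1 14 (by simp [D9_14]))
  exact eq_top_of_name hT hg

/-- **`E₇(q)`, half of the classes 18, 7.** -/
theorem KH_18_7 (hp : p.Prime) (hf : 1 ≤ f) (hq : Fintype.card F = p ^ f)
    (B : Subgroup ↥(Lie.chevE7.group F)) (h : HOff p f [18, 7] B) : B = ⊤ := by
  have hq1 : 1 ≤ p ^ f := Nat.one_le_pow _ _ hp.pos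
  have hT := named_e7 (F := F) tb
  rw [hq] at hT
  have h1 := h 18 (by simp)
  have h2 := h 7 (by simp)
  have hsep : ∀ c ∈ [18, 7], ¬ Nat.card B ∣ E7 c * M7 (p ^ f) c :=
    sepH (e := 18) (e' := 7) hp hf (M := M7 (p ^ f)) (E := E7) (by norm_num) (by norm_num) h1 h2
      (fun c hc => m7_dvd (mem4 (by omega) (by omega) c hc) hq1) (fun c _ s hs hd => e7_le_seven hs hd)
      (by norm_num) (by norm_num)
  obtain ⟨S, hS, g, hg, hch, hdS⟩ := nameK7 tb hcyc hcf hp hf hq (D := D18_7) tblH_187 rfl (by decide) (by decide)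
    (B := B) h1 h2 hsep
    (fun c hc => absurd hc (by simp [D18_7]))
    (fun S hS g l X a _ hg hX hex => absurd hex (by simp))
  obtain rfl := Cfsg.Agent.H72.Same.charp_e7_718 hp hf hg.cond hch hg.eq hdS (hS.h1 7 (by simp [D18_7])) (hS.h1 18 (by simp [D18_7]))
  exact eq_top_of_name hT hg

/-- **`E₇(q)`, half of the classes 18, 14.** -/
theorem KH_18_14 (hp : p.Prime) (hf : 1 ≤ f) (hq : Fintype.card F = p ^ f)
    (B : Subgroup ↥(Lie.chevE7.group F)) (h : HOff p f [18, 14] B) : B = ⊤ := by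
  have hq1 : 1 ≤ p ^ f := Nat.one_le_pow _ _ hp.pos
  have hT := named_e7 (F := F) tb
  rw [hq] at hT
  have h1 := h 18 (by simp)
  have h2 := h 14 (by simp)
  have hsep : ∀ c ∈ [18, 14], ¬ Nat.card B ∣ E7 c * M7 (p ^ f) c :=
    sepH (e := 18) (e' := 14) hp hf (M := M7 (p ^ f)) (E := E7) (by norm_num) (by norm_num) h1 h2
      (fun c hc => m7_dvd (mem4 (by omega) (by omega) c hc) hq1) (fun c _ s hs hd => e7_le_seven hs hd)
      (by norm_num) (by norm_num)
  obtain ⟨S, hS, g, hg, hch, hdS⟩ := nameK7 tb hcyc hcf hp hf hq (D := D18_14) tblH_1814 rfl (by decide) (by decide)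
    (B := B) h1 h2 hsep
    (fun c hc => absurd hc (by simp [D18_14]))
    (fun S hS g l X a _ hg hX hex => absurd hex (by simp))
  have hMp : ¬ p ∣ M7 (p ^ f) 14 := by
    intro h
    have h1 := h.trans (m7_dvd (c := 14) (by omega) hq1)
    have h2 : p ∣ (p ^ f) ^ 14 := dvd_pow (dvd_pow_self p (by omega)) (by norm_num)
    have h3 : p ∣ (p ^ f) ^ 14 - ((p ^ f) ^ 14 - 1) := Nat.dvd_sub h2 h1
    have h4 : 1 ≤ (p ^ f) ^ 14 := Nat.one_le_pow _ _ (by omega)
    rw [Nat.sub_sub_self h4] at h3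
    exact hp.one_lt.ne' (Nat.dvd_one.1 h3)
  have a14 := hS.h1 14 (by simp [D18_14])
  obtain ⟨r, hr, hrS⟩ := id a14
  have hb := (hS.prs 14 (by simp [D18_14]) r hr (hrS.trans (Subgroup.card_subgroup_dvd_card S))).1
  rcases Cfsg.Agent.H72.Same.charp_e7_1418 hp hf hg.cond hch hg.eq hdS a14 (hS.h1 18 (by simp [D18_14])) with
    rfl | rfl | rfl
  · exact (kill_psu9 hp hf (Or.inl rfl) hg (prim_q hf hr) hb hMp).elim
  · exact (kill_psu9 hp hf (Or.inr rfl) hg (prim_q hf hr) hb hMp).elim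
  · exact eq_top_of_name hT hg

/-- **`E₇(q)`, half of the classes 9, 18 and a prime of class 5.** -/
theorem KH_9_18 {s : ℕ} (hp : p.Prime) (hf : 1 ≤ f) (hq : Fintype.card F = p ^ f)
    (B : Subgroup ↥(Lie.chevE7.group F)) (h : HOff p f [9, 18] B) (hs : Prim p (f * 5) s) (hsB : s ∣ Nat.card B) :
    B = ⊤ := by
  have hq2 : 2 ≤ p ^ f := hp.two_le.trans (Nat.le_self_pow (by omega) p)
  have hT := named_e7 (F := F) tb
  rw [hq] at hT
  have hs5 : Prim (p ^ f) 5 s := prim_q hf hs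
  obtain ⟨S, hS, g, hg, hch, hdS⟩ := nameK7 tb hcyc hcf hp hf hq (D := D9_18) tblH_918 rfl (by decide) (by decide)
    (B := B) (h 9 (by simp)) (h 18 (by simp))
    (fun c hc hd => five_not_dvd hq2 hs5 (mem4 (c := 9) (c' := 18) (by omega) (by omega) c hc) (hsB.trans hd))
    (fun c hc => by
      obtain rfl : c = 5 := by simpa [D9_18] using hc
      exact ⟨s, hs, hsB, five_not_dvd hq2 hs5 (c := 9) (by omega)⟩)
    (fun S hS g l X a _ hg hX hex => absurd hex (by simp))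
  have hsS : s ∣ Nat.card S := five_dvd hq2 hs5 (c := 9) (by omega) (hS.idx 9 (by simp [D9_18]))
    (S.card_mul_index).symm hsB
  obtain rfl := Cfsg.Agent.H72.Same.charp_e7_918 hp hf hg.cond hch hg.eq hdS ⟨s, hs, hsS⟩ (hS.h1 9 (by simp [D9_18]))
    (hS.h1 18 (by simp [D9_18]))
  exact eq_top_of_name hT hg

/-- **`E₇(q)`, half of the classes 7, 14 and a prime of class 5.** -/
theorem KH_7_14 {s : ℕ} (hp : p.Prime) (hf : 1 ≤ f) (hq : Fintype.card F = p ^ f)
    (B : Subgroup ↥(Lie.chevE7.group F)) (h : HOff p f [7, 14] B) (hs : Prim p (f * 5) s) (hsB : s ∣ Nat.card B) :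
    B = ⊤ := by
  have hq2 : 2 ≤ p ^ f := hp.two_le.trans (Nat.le_self_pow (by omega) p)
  have hT := named_e7 (F := F) tb
  rw [hq] at hT
  have hs5 : Prim (p ^ f) 5 s := prim_q hf hs
  obtain ⟨S, hS, g, hg, hch, hdS⟩ := nameK7 tb hcyc hcf hp hf hq (D := D7_14) tblH_714 rfl (by decide) (by decide)
    (B := B) (h 7 (by simp)) (h 14 (by simp))
    (fun c hc hd => five_not_dvd hq2 hs5 (mem4 (c := 7) (c' := 14) (by omega) (by omega) c hc) (hsB.trans hd))
    (fun c hc => by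
      obtain rfl : c = 5 := by simpa [D7_14] using hc
      exact ⟨s, hs, hsB, five_not_dvd hq2 hs5 (c := 7) (by omega)⟩)
    (fun S hS g l X a _ hg hX hex => absurd hex (by simp))
  have hsS : s ∣ Nat.card S := five_dvd hq2 hs5 (c := 7) (by omega) (hS.idx 7 (by simp [D7_14]))
    (S.card_mul_index).symm hsB
  obtain rfl := Cfsg.Agent.H72.Same.charp_e7_714 hp hf hg.cond hch hg.eq hdS ⟨s, hs, hsS⟩ (hS.h1 7 (by simp [D7_14]))
    (hS.h1 14 (by simp [D7_14]))
  exact eq_top_of_name hT hg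

end

end Cfsg.Agent.H95.Rg
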