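import Cfsg.Agent.H95.Rg.CentH
import Cfsg.Agent.H73.Rg.HCore

/-!
# Half classes: reducedness, general form (helper95)

`redG` : a subgroup `B` of a linear group `T` of degree `n` containing half of two classes of tori, such that no prime
divides the orders of centralisers of elements of both classes, is reduced. The numbers are checked by the tables
`RD.Ok`, `ck1`, `ck2`.
-/

set_option autoImplicit false

namespace Cfsg.Agent.H95.Rg

open Cfsg Cfsg.Agent.OrdDiv Cfsg.Agent.H436 Cfsg.Agent.H902 Cfsg.Agent.H290.ElReg Cfsg.Agent.H290.ElTab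
  Cfsg.Agent.H56.Exc Cfsg.Agent.H325.Loc Cfsg.Agent.H563.KG Cfsg.Agent.H325.Cov Cfsg.Agent.H73.Rg

/-- the data of the tables: the degree, the shape, the orders of the tori, the exceptions `(k, p, r)`, the bounds, the
condition on `k`, a list of primes, the smallest field -/
structure RD where
  n : ℕ
  Y : Art.Sh
  N : ℕ → ℕ → ℕ
  exl : List (ℕ × ℕ × ℕ)
  bdl : List (ℕ × ℕ)
  kp : ℕ → Bool
  ps : List ℕ
  q₀ : ℕ

namespace RD

variable (D : RD)

/-- the primes up to `n` congruent to 1 modulo `k` -/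
def Sk (k : ℕ) : List ℕ := sps.filter fun r => decide (r ≤ D.n) && r % k == 1

/-- their product -/
def Mk (k : ℕ) : ℕ := (D.Sk k).prod

/-- the test -/
def okc (k p : ℕ) : Bool :=
  let P := pc p k
  let g := Nat.gcd (D.Mk k) P
  decide (g ^ 2 < P) || (D.exl.any (fun x => x.1 == k && x.2.1 == p) &&
    D.exl.all fun x => !(x.1 == k && x.2.1 == p) || g % x.2.2 == 0 && decide ((g / x.2.2) ^ 2 < P))

/-- the check of `k` -/
def chk (x : ℕ × ℕ) : Bool :=
  okk x.1 && decide ((D.Mk x.1) ^ 2 * x.1 < x.2 ^ Nat.totient x.1) &&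
    (List.range (x.2 + 1)).all fun p => decide (p < 2) || !tp p || D.okc x.1 p

/-- the conditions -/
structure Ok : Prop where
  hn : D.n ≤ 133
  chk : (D.bdl.all D.chk) = true
  ks : ((List.range D.n).all fun k => decide (k < 7) || !D.kp k || D.Mk k == 1 ||
    D.bdl.any fun x => x.1 == k) = true
  pr : (D.exl.all fun x => decide (x.2.2.Prime)) = true
  ps : (D.ps.all fun x => decide (x.Prime)) = true

/-- `r` divides no `t ^ k - 1` with `t ^ k` dividing the order -/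
def Bdk (r t q : ℕ) : Bool :=
  !(OL D.Y q % t ^ 51 == 0) && (List.range 50).all fun j =>
    !(OL D.Y q % t ^ (j + 1) == 0) || !((t ^ (j + 1) - 1) % r == 0)

/-- some prime of the list moves no `t`-subgroup -/
def Bde (k p t q : ℕ) : Bool := D.exl.any fun y => y.1 == k && y.2.1 == p && D.Bdk y.2.2 t q

/-- the product of the primes -/
def psp : ℕ := D.ps.prod

/-- the check when the class `c'` centralises -/
def ck1 (c c' : ℕ) : Bool := D.exl.all fun x => !(x.1 % c == 0) || (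
  let f := x.1 / c
  let q := x.2.1 ^ f
  decide (q < D.q₀) || (
  let P := pc x.2.1 (f * c')
  let R := D.N c' q / P
  okk (f * c') && D.N c' q == R * P && D.psp ^ 10 % R == 0 && D.ps.all fun t => !(R % t == 0) ||
    D.exl.any fun y => y.1 == x.1 && y.2.1 == x.2.1 && !((t - 1) % y.2.2 == 0)))

/-- the check when no class centralises -/
def ck2 (c c' : ℕ) : Bool := D.exl.all fun x => D.exl.all fun y =>
  !(x.1 % c == 0 && y.1 % c' == 0 && x.1 / c == y.1 / c' && x.2.1 == y.2.1) || (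
  let f := x.1 / c
  let q := x.2.1 ^ f
  decide (q < D.q₀) || (
  okk (f * c) && okk (f * c') && D.psp ^ 200 % OL D.Y q == 0 && D.ps.all fun t => !(OL D.Y q % t == 0) ||
    t == x.2.1 || pc x.2.1 (f * c) % t == 0 || pc x.2.1 (f * c') % t == 0 || D.Bde x.1 x.2.1 t q || D.Bde y.1 y.2.1 t q))

/-- all checks for a pair -/
def ck (c c' : ℕ) : Bool := D.ck1 c c' && D.ck1 c' c && D.ck2 c c'

variable {D}

theorem Mk_big {k : ℕ} (hk : D.n ≤ k) : D.Mk k = 1 := by
  have h : D.Sk k = [] := by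
    unfold Sk
    rw [List.filter_eq_nil_iff]
    intro r hr h
    simp only [Bool.and_eq_true, decide_eq_true_eq, beq_iff_eq] at h
    have h2 := (sps_prime r hr).two_le
    rcases Nat.lt_or_ge r k with h3 | h3
    · rw [Nat.mod_eq_of_lt h3] at h
      omega
    · obtain rfl : r = k := by omega
      rw [Nat.mod_self] at h
      omega
  unfold Mk
  rw [h, List.prod_nil]

theorem Ok.exc_of (hD : D.Ok) {k p m : ℕ} (hp : p.Prime) (hk : D.kp k = true) (hk7 : 7 ≤ k) (hm : m ∣ PP p k)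
    (hm2 : PP p k ≤ m ^ 2) (hsm : ∀ r, r.Prime → r ∣ m → r ≤ D.n ∧ ¬ r ^ 2 ∣ m) :
    (∃ r, (k, p, r) ∈ D.exl) ∧ ∀ r, (k, p, r) ∈ D.exl → r ∣ m := by
  have hn := hD.hn
  have hP := one_lt_PP (k := k) hp.two_le (by omega) (by omega)
  have hm0 : 0 < m := Nat.pos_of_ne_zero fun h => by
    rw [h] at hm2
    omega
  have hmM : m ∣ D.Mk k := by
    rw [Nat.dvd_iff_prime_pow_dvd_dvd]
    intro r j hr hj
    rcases Nat.eq_zero_or_pos j with rfl | hj0
    · rw [pow_zero]; exact one_dvd _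
    have hrm : r ∣ m := (dvd_pow_self r hj0.ne').trans hj
    have hj1 : j = 1 := by
      by_contra h
      exact (hsm r hr hrm).2 ((pow_dvd_pow r (show 2 ≤ j by omega)).trans hj)
    rw [hj1, pow_one]
    refine List.dvd_prod ?_
    have h1 := (hsm r hr hrm).1
    have h2 := mod_of_prim' hp.two_le (prim_of_dvd_PP hp.two_le (by omega) hr (hrm.trans hm))
    unfold Sk
    rw [List.mem_filter]
    refine ⟨Cfsg.Agent.H95.Rg.mem_sps r (by omega) hr, ?_⟩
    simp only [Bool.and_eq_true, decide_eq_true_eq, beq_iff_eq]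
    refine ⟨h1, ?_⟩
    obtain ⟨c, hc⟩ := h2
    have h3 : r = 1 + k * c := by have := hr.two_le; omega
    rw [h3, Nat.add_mul_mod_self_left, Nat.mod_eq_of_lt (by omega)]
  have hMk : D.Mk k ≠ 1 := by
    intro h
    rw [h, Nat.dvd_one] at hmM
    rw [hmM] at hm2
    omega
  have hlt : k < D.n := by
    by_contra h
    exact hMk (Mk_big (by omega))
  have hex : ∃ x ∈ D.bdl, x.1 = k := by
    have h1 := List.all_eq_true.1 hD.ks k (List.mem_range.2 hlt)
    simp only [Bool.or_eq_true, decide_eq_true_eq, Bool.not_eq_true', hk, beq_iff_eq,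
      List.any_eq_true] at h1
    rcases h1 with ((h1 | h1) | h1) | h1
    · omega
    · exact absurd h1 (by decide)
    · exact absurd h1 hMk
    · exact h1
  obtain ⟨⟨k', b⟩, hx, rfl⟩ := hex
  simp only at *
  have hc := List.all_eq_true.1 hD.chk _ hx
  unfold RD.chk okk at hc
  simp only [Bool.and_eq_true, decide_eq_true_eq, beq_iff_eq, List.all_eq_true, List.mem_range, Bool.or_eq_true,
    Bool.not_eq_true'] at hc
  obtain ⟨⟨hc1, hc2⟩, hc3⟩ := hc
  have hMk0 : 0 < D.Mk k' := by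
    unfold Mk
    refine List.prod_pos fun r hr => ?_
    exact (sps_prime r (List.mem_of_mem_filter hr)).pos
  have hmM' := Nat.le_of_dvd hMk0 hmM
  have hPM : PP p k' ≤ (D.Mk k') ^ 2 := hm2.trans (Nat.pow_le_pow_left hmM' 2)
  have hpb : p ≤ b := by
    by_contra hpb
    have h1 := PP_lower (p := p) (e := k') (f := 1) (P := b) hp.two_le (by omega) le_rfl (by omega)
    rw [mul_one] at h1
    exact absurd (h1.trans (Nat.mul_le_mul_right _ hPM)) (not_le.2 hc2)
  have hok : D.okc k' p = true := by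
    rcases hc3 p (by omega) with (h1 | h1) | h1
    · have := hp.two_le
      omega
    · rw [tp_of_prime hp] at h1
      exact absurd h1 (by decide)
    · exact h1
  have hpc : PP p k' = pc p k' := PP_eq hc1 hp.two_le
  rw [hpc] at hm hm2
  have hg : m ∣ Nat.gcd (D.Mk k') (pc p k') := Nat.dvd_gcd hmM hm
  have hg0 : 0 < Nat.gcd (D.Mk k') (pc p k') := Nat.gcd_pos_of_pos_left _ hMk0
  unfold okc at hok
  simp only [Bool.or_eq_true, decide_eq_true_eq, List.any_eq_true, List.all_eq_true, Bool.and_eq_true, beq_iff_eq,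
    Bool.not_eq_true', Bool.and_eq_false_iff, beq_eq_false_iff_ne] at hok
  rcases hok with h1 | ⟨⟨⟨k1, p1, r1⟩, hx1, h2, h3⟩, h4⟩
  · exact absurd (hm2.trans (Nat.pow_le_pow_left (Nat.le_of_dvd hg0 hg) 2)) (not_le.2 h1)
  · simp only at h2 h3
    subst h2 h3
    refine ⟨⟨r1, hx1⟩, fun r hrx => ?_⟩
    have hr : r.Prime := by
      have := List.all_eq_true.1 hD.pr _ hrx
      simpa using this
    by_contra hrm
    rcases h4 _ hrx with h5 | ⟨h4, h5⟩
    · rcases h5 with h5 | h5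
      · exact h5 rfl
      · exact h5 rfl
    simp only at h4 h5
    obtain ⟨c, hc⟩ := Nat.dvd_of_mod_eq_zero h4
    rw [hc, Nat.mul_div_cancel_left _ hr.pos] at h5
    rw [hc] at hg
    have h6 : m ∣ c := (Nat.Coprime.symm ((Nat.Prime.coprime_iff_not_dvd hr).2 hrm)).dvd_of_dvd_mul_left hg
    have hc0 : 0 < c := Nat.pos_of_ne_zero fun h => by
      rw [h, mul_zero] at hc
      omega
    exact absurd (hm2.trans (Nat.pow_le_pow_left (Nat.le_of_dvd hc0 h6) 2)) (not_le.2 h5)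

theorem bdk_spec {r t q : ℕ} (h : D.Bdk r t q = true) {k : ℕ} (hk : 0 < k) (hd : t ^ k ∣ OL D.Y q) : ¬ r ∣ t ^ k - 1 := by
  unfold Bdk at h
  simp only [Bool.and_eq_true, Bool.not_eq_true', beq_eq_false_iff_ne, List.all_eq_true, List.mem_range,
    Bool.or_eq_true] at h
  obtain ⟨h1, h2⟩ := h
  have hk51 : k ≤ 50 := by
    by_contra hcon
    exact h1 (Nat.mod_eq_zero_of_dvd ((pow_dvd_pow t (show 51 ≤ k by omega)).trans hd))
  rcases h2 (k - 1) (by omega) with h3 | h3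
  · rw [show k - 1 + 1 = k by omega] at h3
    exact absurd (Nat.mod_eq_zero_of_dvd hd) h3
  · rw [show k - 1 + 1 = k by omega] at h3
    exact fun h4 => h3 (Nat.mod_eq_zero_of_dvd h4)

theorem Ok.mem_ps (hD : D.Ok) {t a n : ℕ} (ht : t.Prime) (h : D.psp ^ a % n = 0) (hn : t ∣ n) : t ∈ D.ps := by
  have h1 : t ∣ D.psp := ht.dvd_of_dvd_pow (hn.trans (Nat.dvd_of_mod_eq_zero h))
  unfold psp at h1
  rw [Prime.dvd_prod_iff ht.prime] at h1
  obtain ⟨l, hl, hd⟩ := h1
  have hlp : l.Prime := by simpa using List.all_eq_true.1 hD.ps l hl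
  rwa [(Nat.prime_dvd_prime_iff_eq ht hlp).1 hd]

end RD

/-! ### the groups -/

section

variable {F : Type} [Field F] {p f : ℕ} {T : Type} [Group T] [Finite T] {D : RD} {M E : ℕ → ℕ}

/-- the subgroup centralised by one class has prime order -/
theorem card_of_cent {B : Subgroup T} {r m e t : ℕ} (hb : Big T r m e) {A : Subgroup B} (hAt : ∀ a ∈ A, a ^ t = 1)
    {a₀ : B} (ha₀ : a₀ ∈ A) (hat : orderOf a₀ = t) {x : B} (hx : orderOf x = r) (hxA : ∀ a ∈ A, x * a = a * x) :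
    Nat.card A = t := by
  have hcy := (hb.subgroup B).cyc x hx
  have hle : A ≤ Subgroup.centralizer ({x} : Set B) := fun a ha =>
    Subgroup.mem_centralizer_singleton_iff.2 (hxA a ha).symm
  have hAc : IsCyclic A := isCyclic_of_injective (Subgroup.inclusion hle) (Subgroup.inclusion_injective hle)
  obtain ⟨g, hg⟩ := hAc.exists_generator
  have h1 : orderOf g = Nat.card A := orderOf_eq_card_of_forall_mem_zpowers hg
  refine Nat.dvd_antisymm ?_ ?_
  · rw [← h1]
    refine orderOf_dvd_of_pow_eq_one (Subtype.ext ?_)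
    exact hAt g g.2
  · rw [← hat]
    have h2 : orderOf (⟨a₀, ha₀⟩ : A) = orderOf a₀ := by rw [← Subgroup.orderOf_coe]
    rw [← h2]
    exact orderOf_dvd_natCard _

/-- a subgroup of prime order `t` is centralised by the elements of prime order `r ∤ t - 1` -/
theorem cent_of_card {B : Subgroup T} {r t : ℕ} (ht : t.Prime) (hr : r.Prime) {A : Subgroup B} (hAn : A.Normal)
    (hA : Nat.card A = t) (hrB : r ∣ Nat.card B) (hrt : ¬ r ∣ t - 1) :
    ∃ x : B, orderOf x = r ∧ ∀ a ∈ A, x * a = a * x := by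
  have := Fact.mk hr
  have := Fact.mk ht
  obtain ⟨x, hx⟩ := exists_prime_orderOf_dvd_card' r hrB
  refine ⟨x, hx, ?_⟩
  by_contra hcon
  push Not at hcon
  obtain ⟨b, hb, hxb⟩ := hcon
  apply hrt
  rw [← hA]
  refine dvd_card_sub_one (A := A) hr hx fun a ha hc => ?_
  by_contra ha1
  -- `a` generates `A`
  have h1 : Subgroup.zpowers (⟨a, ha⟩ : A) = ⊤ := by
    have : Fact (Nat.card A).Prime := ⟨by rwa [hA]⟩
    have h2 := Subgroup.eq_bot_or_eq_top_of_prime_card (Subgroup.zpowers (⟨a, ha⟩ : A))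
    refine h2.resolve_left fun h3 => ha1 ?_
    rw [Subgroup.zpowers_eq_bot] at h3
    exact congrArg Subtype.val h3
  have h3 : (⟨b, hb⟩ : A) ∈ Subgroup.zpowers (⟨a, ha⟩ : A) := by rw [h1]; exact Subgroup.mem_top _
  obtain ⟨k, hk⟩ := h3
  have h4 : a ^ k = b := congrArg Subtype.val hk
  apply hxb
  rw [← h4]
  exact ((show Commute x a from hc).zpow_right k).eq

theorem z_orG (hD : D.Ok) (hp : p.Prime) (hf : 1 ≤ f) [CharP F p] (hrep : Fth D.n F T)
    (hdT : Nat.card T ∣ OL D.Y (p ^ f)) {c : ℕ} (hc7 : 7 ≤ c) (hcn : D.n < (c + 1) ^ 2) (hck : D.kp (f * c) = true)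
    (hbig : ∀ r, Prim (p ^ f) c r → Big T r (M c) (E c))
    {B : Subgroup T} (h : HAt p f c B) {t : ℕ} (ht : t.Prime) (htp : t ≠ p)
    (htc : ¬ Prim p (f * c) t) {A : Subgroup B} (hAn : A.Normal) (hA : ∀ a ∈ A, ∀ b ∈ A, a * b = b * a)
    (hAt : ∀ a ∈ A, a ^ t = 1) :
    (∃ r, Prim p (f * c) r ∧ ∃ x : B, orderOf x = r ∧ ∀ a ∈ A, x * a = a * x) ∨
      ((∃ r, (f * c, p, r) ∈ D.exl) ∧ ∀ r, (f * c, p, r) ∈ D.exl →
        Prim p (f * c) r ∧ r ∣ Nat.card B ∧ ¬ D.Bdk r t (p ^ f) = true) := by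
  by_cases hZ : ∃ r, Prim p (f * c) r ∧ ∃ x : B, orderOf x = r ∧ ∀ a ∈ A, x * a = a * x
  · exact Or.inl hZ
  right
  have hfc : 1 * c ≤ f * c := Nat.mul_le_mul_right _ hf
  have key : ∀ r, Prim p (f * c) r → r ∣ Nat.card B →
      ¬ (D.n < r ^ (Nat.card B).factorization r ∨ ∀ k, 0 < k → t ^ k ∣ Nat.card B → ¬ r ∣ t ^ k - 1) := by
    intro r hr hrB hcon
    exact hZ ⟨r, hr, cent_syl hp hrep ht htp (fun h => htc (h ▸ hr))
      (hbig r (prim_q hf hr)) hrB hAn hA hAt hcon⟩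
  have hdB : Nat.card ↥B ∣ OL D.Y (p ^ f) := (Subgroup.card_subgroup_dvd_card B).trans hdT
  have hpr : ∀ r, r.Prime → r ∣ Nat.gcd (Nat.card B) (PP p (f * c)) → Prim p (f * c) r ∧ r ∣ Nat.card B :=
    fun r hr hrd => ⟨prim_of_dvd_PP hp.two_le (by omega) hr (hrd.trans (Nat.gcd_dvd_right _ _)),
      hrd.trans (Nat.gcd_dvd_left _ _)⟩
  obtain ⟨h1, h2⟩ := hD.exc_of (k := f * c) hp hck (by omega) (Nat.gcd_dvd_right (Nat.card B) _) h.half
    (fun r hr hrd => by
      obtain ⟨h1, h2⟩ := hpr r hr hrd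
      have h3 : r ^ (Nat.card B).factorization r ≤ D.n := by
        by_contra hcon
        exact key r h1 h2 (Or.inl (by omega))
      have h4 : 1 ≤ (Nat.card B).factorization r := (hr.dvd_iff_one_le_factorization Nat.card_pos.ne').1 h2
      refine ⟨?_, fun h5 => ?_⟩
      · calc r = r ^ 1 := (pow_one r).symm
          _ ≤ r ^ (Nat.card B).factorization r := Nat.pow_le_pow_right hr.pos h4
          _ ≤ D.n := h3
      · have h6 : 2 ≤ (Nat.card B).factorization r :=
          (hr.pow_dvd_iff_le_factorization Nat.card_pos.ne').1 (h5.trans (Nat.gcd_dvd_left _ _))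
        have h7 : r ^ 2 ≤ D.n := (Nat.pow_le_pow_right hr.pos h6).trans h3
        have h8 := Nat.le_of_dvd (by have := hr.two_le; omega) (mod_of_prim' hp.two_le h1)
        have h9 : (c + 1) ^ 2 ≤ r ^ 2 := Nat.pow_le_pow_left (by omega) 2
        omega)
  refine ⟨h1, fun r hr => ?_⟩
  have hrp : r.Prime := by
    have := List.all_eq_true.1 hD.pr _ hr
    simpa using this
  obtain ⟨h3, h4⟩ := hpr r hrp (h2 r hr)
  exact ⟨h3, h4, fun hbd => key r h3 h4 (Or.inr fun k hk hkd => RD.bdk_spec hbd hk (hkd.trans hdB))⟩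

/-- a normal elementary abelian subgroup is centralised by both classes -/
theorem z_bothG (hD : D.Ok) (hp : p.Prime) (hf : 1 ≤ f) (hq₀ : D.q₀ ≤ p ^ f) [CharP F p] (hrep : Fth D.n F T)
    (hdT : Nat.card T ∣ OL D.Y (p ^ f)) {c c' : ℕ} (hck : D.ck c c' = true) (hc7 : 7 ≤ c) (hc7' : 7 ≤ c')
    (hcn : D.n < (c + 1) ^ 2) (hcn' : D.n < (c' + 1) ^ 2) (hkp : D.kp (f * c) = true) (hkp' : D.kp (f * c') = true)
    (hbig : ∀ e ∈ [c, c'], ∀ r, Prim (p ^ f) e r → Big T r (M e) (E e))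
    (hord : ∀ e ∈ [c, c'], Ord T (p ^ f) e (D.N e (p ^ f)))
    {B : Subgroup T} (h : HAt p f c B) (h' : HAt p f c' B) {t : ℕ} (ht : t.Prime) (htp : t ≠ p)
    (htc : ¬ Prim p (f * c) t) (htc' : ¬ Prim p (f * c') t) {A : Subgroup B} (hAn : A.Normal)
    (hA : ∀ a ∈ A, ∀ b ∈ A, a * b = b * a) (hAt : ∀ a ∈ A, a ^ t = 1) {a : B} (haA : a ∈ A) (hat : orderOf a = t) :
    (∃ r, Prim p (f * c) r ∧ ∃ x : B, orderOf x = r ∧ ∀ a ∈ A, x * a = a * x) ∧
      (∃ r, Prim p (f * c') r ∧ ∃ x : B, orderOf x = r ∧ ∀ a ∈ A, x * a = a * x) := by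
  have htB : t ∣ Nat.card B := hat ▸ orderOf_dvd_natCard a
  have htO : t ∣ OL D.Y (p ^ f) := (htB.trans (Subgroup.card_subgroup_dvd_card B)).trans hdT
  unfold RD.ck at hck
  simp only [Bool.and_eq_true] at hck
  obtain ⟨⟨k1, k2⟩, k3⟩ := hck
  -- one class centralises
  have key : ∀ {e e' : ℕ}, 7 ≤ e → 7 ≤ e' → e' ∈ [c, c'] →
      D.ck1 e e' = true → ¬ Prim p (f * e') t →
      (∃ r, Prim p (f * e') r ∧ ∃ x : B, orderOf x = r ∧ ∀ a ∈ A, x * a = a * x) →
      ((∃ r, (f * e, p, r) ∈ D.exl) ∧ ∀ r, (f * e, p, r) ∈ D.exl →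
        Prim p (f * e) r ∧ r ∣ Nat.card B ∧ ¬ D.Bdk r t (p ^ f) = true) →
      (∃ r, Prim p (f * e) r ∧ ∃ x : B, orderOf x = r ∧ ∀ a ∈ A, x * a = a * x) := by
    rintro e e' he he' hem hk hte ⟨r', hr', x, hx, hxA⟩ ⟨⟨r, hr⟩, hbd⟩
    have he0 : 0 < e := by omega
    have h1 := List.all_eq_true.1 hk _ hr
    have h2 : f * e % e = 0 := Nat.mul_mod_left f e
    have h3 : f * e / e = f := Nat.mul_div_cancel f he0
    have hq₀' : ¬ p ^ f < D.q₀ := not_lt.2 hq₀
    simp only [h2, h3, beq_self_eq_true, Bool.not_true, Bool.false_or, Bool.and_eq_true, beq_iff_eq,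
      List.all_eq_true, Bool.or_eq_true, Bool.not_eq_true', beq_eq_false_iff_ne, decide_eq_true_eq, hq₀', false_or,
      List.any_eq_true] at h1
    obtain ⟨⟨⟨a1, a2⟩, a3⟩, a4⟩ := h1
    have hbb := hbig e' hem r' (prim_q hf hr')
    have hcard := card_of_cent hbb hAt haA hat hx hxA
    have h4 : t ∣ D.N e' (p ^ f) := by
      have h5 := ((hord e' hem).sub B) r' (prim_q hf hr') x hx
      have h6 : a ∈ Subgroup.centralizer ({x} : Set B) := Subgroup.mem_centralizer_singleton_iff.2 (hxA a haA).symm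
      have h7 : orderOf (⟨a, h6⟩ : ↥(Subgroup.centralizer ({x} : Set B))) = t := by
        rw [← Subgroup.orderOf_coe, hat]
      rw [← h7]
      exact (orderOf_dvd_natCard _).trans h5
    rw [a2] at h4
    have hfe : 1 * e' ≤ f * e' := Nat.mul_le_mul_right _ hf
    have hP : ¬ t ∣ pc p (f * e') := by
      rw [← PP_eq (by simpa [okk] using a1) hp.two_le]
      exact fun h => hte (prim_of_dvd_PP hp.two_le (by omega) ht h)
    have h5 := (ht.dvd_mul.1 h4).resolve_right hP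
    have h6 := hD.mem_ps ht a3 h5
    rcases a4 t h6 with h7 | ⟨⟨k, p', s⟩, hy, ⟨h8, h9⟩, h10⟩
    · exact absurd (Nat.mod_eq_zero_of_dvd h5) h7
    · simp only at h8 h9 h10
      subst h8 h9
      obtain ⟨b1, b2, -⟩ := hbd _ hy
      obtain ⟨y, hy1, hy2⟩ := cent_of_card ht b1.prime hAn hcard b2 fun h => h10 (Nat.mod_eq_zero_of_dvd h)
      exact ⟨s, b1, y, hy1, hy2⟩
  have hz := z_orG hD hp hf hrep hdT hc7 hcn hkp (hbig c (by simp)) h ht htp htc hAn hA hAt
  have hz' := z_orG hD hp hf hrep hdT hc7' hcn' hkp' (hbig c' (by simp)) h' ht htp htc' hAn hA hAt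
  rcases hz with z | z
  · refine ⟨z, ?_⟩
    rcases hz' with z' | z'
    · exact z'
    · exact key hc7' hc7 (by simp) k2 htc z z'
  · rcases hz' with z' | z'
    · exact ⟨key hc7 hc7' (by simp) k1 htc' z' z, z'⟩
    · exfalso
      obtain ⟨⟨r, hr⟩, hbd⟩ := z
      obtain ⟨⟨r', hr'⟩, hbd'⟩ := z'
      have h1 := List.all_eq_true.1 (List.all_eq_true.1 k3 _ hr) _ hr'
      have hc0 : 0 < c := by omega
      have hc0' : 0 < c' := by omega
      have b1 : f * c % c = 0 := Nat.mul_mod_left f c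
      have b2 : f * c' % c' = 0 := Nat.mul_mod_left f c'
      have b3 : f * c / c = f := Nat.mul_div_cancel f hc0
      have b4 : f * c' / c' = f := Nat.mul_div_cancel f hc0'
      have hq₀' : ¬ p ^ f < D.q₀ := not_lt.2 hq₀
      simp only [b1, b2, b3, b4, beq_self_eq_true, Bool.and_self, Bool.not_true, Bool.false_or, Bool.and_eq_true,
        beq_iff_eq, List.all_eq_true, Bool.or_eq_true, Bool.not_eq_true', beq_eq_false_iff_ne, decide_eq_true_eq,
        hq₀', false_or] at h1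
      obtain ⟨⟨⟨a1, a1'⟩, a2⟩, a3⟩ := h1
      have hfe : 1 * c ≤ f * c := Nat.mul_le_mul_right _ hf
      have hfe' : 1 * c' ≤ f * c' := Nat.mul_le_mul_right _ hf
      have hmem := hD.mem_ps ht a2 htO
      rcases a3 t hmem with ((((h2 | h2) | h2) | h2) | h2) | h2
      · exact h2 (Nat.mod_eq_zero_of_dvd htO)
      · exact htp h2
      · refine htc (prim_of_dvd_PP hp.two_le (by omega) ht ?_)
        rw [PP_eq (by simpa [okk] using a1) hp.two_le]
        exact Nat.dvd_of_mod_eq_zero h2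
      · refine htc' (prim_of_dvd_PP hp.two_le (by omega) ht ?_)
        rw [PP_eq (by simpa [okk] using a1') hp.two_le]
        exact Nat.dvd_of_mod_eq_zero h2
      · unfold RD.Bde at h2
        rw [List.any_eq_true] at h2
        obtain ⟨⟨k, p', r'⟩, hy, h8⟩ := h2
        simp only [Bool.and_eq_true, beq_iff_eq] at h8
        obtain ⟨⟨rfl, rfl⟩, h9⟩ := h8
        exact (hbd _ hy).2.2 h9
      · unfold RD.Bde at h2
        rw [List.any_eq_true] at h2
        obtain ⟨⟨k, p', r'⟩, hy, h8⟩ := h2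
        simp only [Bool.and_eq_true, beq_iff_eq] at h8
        obtain ⟨⟨rfl, rfl⟩, h9⟩ := h8
        exact (hbd' _ hy).2.2 h9

/-- **Reducedness.** -/
theorem redG (hcyc : CycFixSolv.{0}) (hD : D.Ok) (hp : p.Prime) (hf : 1 ≤ f) (hq₀ : D.q₀ ≤ p ^ f) [CharP F p]
    (hrep : Fth D.n F T) (hdT : Nat.card T ∣ OL D.Y (p ^ f)) {c c' : ℕ} (hck : D.ck c c' = true) (hc7 : 7 ≤ c)
    (hc7' : 7 ≤ c') (hcn : D.n < (c + 1) ^ 2) (hcn' : D.n < (c' + 1) ^ 2) (hkp : D.kp (f * c) = true)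
    (hkp' : D.kp (f * c') = true) (hbig : ∀ e ∈ [c, c'], ∀ r, Prim (p ^ f) e r → Big T r (M e) (E e))
    (hord : ∀ e ∈ [c, c'], Ord T (p ^ f) e (D.N e (p ^ f)))
    (hnb : ∀ t r r' : ℕ, t.Prime → t ≠ p → Prim (p ^ f) c r → Prim (p ^ f) c' r' → ∀ x x' : T, orderOf x = r →
      orderOf x' = r' → t ∣ Nat.card ↥(Subgroup.centralizer ({x} : Set T)) →
      t ∣ Nat.card ↥(Subgroup.centralizer ({x'} : Set T)) → False)
    {B : Subgroup T} (h : HAt p f c B) (h' : HAt p f c' B)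
    {c₀ r₀ : ℕ} (hc₀ : c₀ ∈ [c, c']) (hr₀ : Prim p (f * c₀) r₀) (hpiso : PIso p r₀ T) (hr₀B : r₀ ∣ Nat.card B) :
    Red ↥B (Pr (FmH p f [c, c'] M E (Nat.card B))) := by
  intro N hN hNr
  by_contra hne
  have := Fact.mk hr₀.prime
  have := Fact.mk hp
  have hPr : Pr (FmH p f [c, c'] M E (Nat.card B)) r₀ := pr_fmH.2 ⟨c₀, hc₀, hr₀, hr₀B⟩
  -- `N` is solvable
  have hsolv : Group.IsSolvable N := by
    obtain ⟨x, hx⟩ := exists_prime_orderOf_dvd_card' r₀ hr₀B
    apply hcyc N (MulAut.conjNormal (H := N) x) r₀ hr₀.prime _ (hNr r₀ hPr)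
    · refine ⟨(Subgroup.centralizer {x}).comap N.subtype, ?_, fun a ha => ?_⟩
      · have := ((hbig c₀ hc₀ r₀ (prim_q hf hr₀)).subgroup B).cyc x hx
        let g : ↥((Subgroup.centralizer {x}).comap N.subtype) →* ↥(Subgroup.centralizer {x}) :=
          (N.subtype.comp ((Subgroup.centralizer {x}).comap N.subtype).subtype).codRestrict _ fun y => y.2
        exact isCyclic_of_injective g fun a b hab => by
          have h3 : ((a : N) : B) = ((b : N) : B) :=
            congrArg (fun z : ↥(Subgroup.centralizer {x}) => (z : B)) hab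
          exact Subtype.ext (Subtype.ext h3)
      · rw [Subgroup.mem_comap, Subgroup.mem_centralizer_singleton_iff]
        have h2 := congrArg Subtype.val ha
        rw [MulAut.conjNormal_apply, mul_inv_eq_iff_eq_mul] at h2
        exact h2.symm
    · rw [← map_pow, ← hx, pow_orderOf_eq_one, map_one]
  obtain ⟨t, ht, A, hAn, hAN, hA0, hAc, hAt⟩ := exists_elem' hN hsolv hne
  have hPt : IsPGroup t A := fun a => ⟨1, by rw [pow_one]; exact Subtype.ext (hAt a a.2)⟩
  have := Fact.mk ht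
  obtain ⟨k, hk⟩ := IsPGroup.iff_card.1 hPt
  have hk0 : k ≠ 0 := by
    rintro rfl
    rw [pow_zero, Subgroup.card_eq_one] at hk
    exact hA0 hk
  have htN : t ∣ Nat.card N := (hk ▸ dvd_pow_self t hk0 : t ∣ Nat.card A).trans (Subgroup.card_dvd_of_le hAN)
  have htp : t ≠ p := by
    rintro rfl
    exact hA0 (pcore_of_piso (hpiso.sub B) hr₀B A hAn hPt)
  have hnp : ∀ e ∈ [c, c'], ¬ Prim p (f * e) t := fun e he hpe =>
    hNr t (pr_fmH.2 ⟨e, he, hpe, htN.trans (Subgroup.card_subgroup_dvd_card N)⟩) htN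
  obtain ⟨a, haA, ha1⟩ : ∃ a ∈ A, a ≠ 1 := by
    by_contra hcon
    push Not at hcon
    exact hA0 ((Subgroup.eq_bot_iff_forall A).2 hcon)
  have hat : orderOf a = t := orderOf_eq_prime (hAt a haA) ha1
  obtain ⟨⟨r, hr, x, hx, hxA⟩, r', hr', x', hx', hxA'⟩ := z_bothG hD hp hf hq₀ hrep hdT hck hc7 hc7' hcn hcn' hkp hkp'
    hbig hord h h' ht htp (hnp c (by simp)) (hnp c' (by simp)) hAn hAc hAt haA hat
  have key : ∀ y : B, y * a = a * y → t ∣ Nat.card ↥(Subgroup.centralizer ({(y : T)} : Set T)) := by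
    intro y hy
    have h6 : (a : T) ∈ Subgroup.centralizer ({(y : T)} : Set T) :=
      Subgroup.mem_centralizer_singleton_iff.2 (congrArg Subtype.val hy.symm)
    have h7 : orderOf (⟨(a : T), h6⟩ : ↥(Subgroup.centralizer ({(y : T)} : Set T))) = t := by
      rw [← Subgroup.orderOf_coe]
      show orderOf (a : T) = t
      rw [Subgroup.orderOf_coe, hat]
    rw [← h7]
    exact orderOf_dvd_natCard _
  exact hnb t r r' ht htp (prim_q hf hr) (prim_q hf hr') x x' (by rw [Subgroup.orderOf_coe]; exact hx)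
    (by rw [Subgroup.orderOf_coe]; exact hx') (key x (hxA a haA)) (key x' (hxA' a haA))

end

end Cfsg.Agent.H95.Rg
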