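import Cfsg.Agent.H325.Cov.KE7e
import Cfsg.Agent.H73.Rg.HDefs

/-!
# Half classes: elements centralising a normal elementary abelian subgroup (helper95)

`cent_syl` : in a linear group of degree `n` an element of prime order `r` (big) centralises a normal elementary abelian
`t`-subgroup, if the order of the Sylow `r`-subgroups is larger than `n`, or if `r` divides no `t ^ k - 1` with `t ^ k`
dividing the order.
`exc_of` : the pairs `(k, p)` such that half of the `p`-primitive part of `p ^ k - 1` consists of small primes.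
-/

set_option autoImplicit false

namespace Cfsg.Agent.H95.Rg

open Cfsg Cfsg.Agent.OrdDiv Cfsg.Agent.H436 Cfsg.Agent.H902 Cfsg.Agent.H290.ElReg Cfsg.Agent.H290.ElTab
  Cfsg.Agent.H56.Exc Cfsg.Agent.H325.Loc Cfsg.Agent.H563.KG Cfsg.Agent.H325.Cov Cfsg.Agent.H73.Rg

section

variable {F : Type} [Field F] {p n : ℕ}

theorem cent_syl {T : Type} [Group T] [Finite T] (hp : p.Prime) [CharP F p] (hrep : Fth n F T) {B : Subgroup T}
    {t r m e : ℕ} (ht : t.Prime) (htp : t ≠ p) (htr : t ≠ r) (hb : Big T r m e) (hrB : r ∣ Nat.card B)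
    {A : Subgroup B} (hAn : A.Normal) (hA : ∀ a ∈ A, ∀ b ∈ A, a * b = b * a) (hAt : ∀ a ∈ A, a ^ t = 1)
    (h : n < r ^ (Nat.card B).factorization r ∨ ∀ k, 0 < k → t ^ k ∣ Nat.card B → ¬ r ∣ t ^ k - 1) :
    ∃ x : B, orderOf x = r ∧ ∀ a ∈ A, x * a = a * x := by
  have := Fact.mk hp
  have hbB := hb.subgroup B
  have hr := hb.prime
  have := Fact.mk hr
  obtain ⟨τ, hτ⟩ := hrep.sub B.subtype B.subtype_injective
  -- the commutation
  have hC : ∀ y : B, ∀ k, orderOf y = r ^ k → ∀ j : ℕ, (orderOf (y ^ j)).Prime → ∀ a ∈ A, y ^ j * a = a * y ^ j →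
      y * a = a * y := by
    intro y k hy j hj a ha hja
    have h1 : orderOf (y ^ j) ∣ r ^ k := hy ▸ orderOf_pow_dvd j
    have h2 : orderOf (y ^ j) = r := (Nat.prime_dvd_prime_iff_eq hj hr).1 (hj.dvd_of_dvd_pow h1)
    have h3 := hbB.cyc (y ^ j) h2
    let _ := IsCyclic.commGroup (α := ↥(Subgroup.centralizer ({y ^ j} : Set B)))
    have ha' : a ∈ Subgroup.centralizer ({y ^ j} : Set B) := Subgroup.mem_centralizer_singleton_iff.2 hja.symm
    have hz' : y ∈ Subgroup.centralizer ({y ^ j} : Set B) :=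
      Subgroup.mem_centralizer_singleton_iff.2 ((Commute.refl y).pow_right j).eq
    exact congrArg Subtype.val (mul_comm (⟨y, hz'⟩ : ↥(Subgroup.centralizer ({y ^ j} : Set B))) ⟨a, ha'⟩)
  rcases h with h | h
  · obtain ⟨P⟩ : Nonempty (Sylow r B) := inferInstance
    have hcy := hbB.isCyclic_sylow P
    obtain ⟨g, hg⟩ := hcy.exists_generator
    have hcard : Nat.card ↥(P : Subgroup B) = r ^ (Nat.card B).factorization r := P.card_eq_multiplicity
    have hgo : orderOf (g : B) = r ^ (Nat.card B).factorization r := by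
      rw [Subgroup.orderOf_coe, ← hcard]
      exact orderOf_eq_card_of_forall_mem_zpowers hg
    have hk0 : (Nat.card B).factorization r ≠ 0 := by
      intro h0
      have := (hr.dvd_iff_one_le_factorization Nat.card_pos.ne').1 hrB
      omega
    have htm : ¬ t ∣ r ^ (Nat.card B).factorization r := fun h1 =>
      htr ((Nat.prime_dvd_prime_iff_eq ht hr).1 (ht.dvd_of_dvd_pow h1))
    have h1 := cent_all hτ hAn hA ht htp hAt hgo htm (hC g _ hgo) (Or.inl (by rwa [Fintype.card_fin]))
    have hd : r ∣ orderOf (g : B) := by rw [hgo]; exact dvd_pow_self r hk0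
    refine ⟨(g : B) ^ (orderOf (g : B) / r), orderOf_part hd, fun a ha => ?_⟩
    exact (Commute.pow_left (show Commute (g : B) a from h1 a ha) _).eq
  · obtain ⟨x, hx⟩ := exists_prime_orderOf_dvd_card' r hrB
    refine ⟨x, hx, ?_⟩
    have htm : ¬ t ∣ r := fun h1 => htr ((Nat.prime_dvd_prime_iff_eq ht hr).1 h1)
    exact cent_all hτ hAn hA ht htp hAt hx htm (hC x 1 (by rw [hx, pow_one])) (Or.inr ⟨hr, h⟩)

end

/-! ### the exceptions -/

/-- the small primes congruent to 1 modulo `k` -/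
def Sk (k : ℕ) : List ℕ := sps.filter fun r => decide (r ≤ 133) && r % k == 1

/-- their product -/
def Mk (k : ℕ) : ℕ := (Sk k).prod

/-- the exceptions `(k, p, r)` -/
def exl : List (ℕ × ℕ × ℕ) :=
  [(7, 2, 127), (14, 2, 43), (28, 2, 113), (9, 2, 73), (18, 2, 19), (18, 3, 37), (18, 41, 37), (18, 41, 19),
    (36, 2, 109)]

/-- the test -/
def okc (k p : ℕ) : Bool :=
  let P := pc p k
  let g := Nat.gcd (Mk k) P
  decide (g ^ 2 < P) || (exl.any (fun x => x.1 == k && x.2.1 == p) &&
    exl.all fun x => !(x.1 == k && x.2.1 == p) || g % x.2.2 == 0 && decide ((g / x.2.2) ^ 2 < P))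

/-- the bounds -/
def bdl : List (ℕ × ℕ) :=
  [(7, 1499), (9, 1287), (14, 1682), (18, 1445), (21, 6), (27, 3), (28, 6), (35, 2), (36, 11), (42, 6), (54, 3), (56, 2),
    (63, 2), (70, 2), (72, 2), (108, 2), (112, 2), (126, 2)]

/-- a test satisfied by the primes -/
def tp (p : ℕ) : Bool := sps.all fun l => p % l != 0 || p == l

theorem tp_of_prime {p : ℕ} (hp : p.Prime) : tp p = true := by
  unfold tp
  rw [List.all_eq_true]
  intro l hl
  simp only [Bool.or_eq_true, bne_iff_ne, ne_eq, beq_iff_eq]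
  by_cases h : p % l = 0
  · right
    exact ((Nat.prime_dvd_prime_iff_eq (sps_prime l hl) hp).1 (Nat.dvd_of_mod_eq_zero h)).symm
  · exact Or.inl h

/-- the check of `k` -/
def chk (x : ℕ × ℕ) : Bool :=
  okk x.1 && decide ((Mk x.1) ^ 2 * x.1 < x.2 ^ Nat.totient x.1) &&
    (List.range (x.2 + 1)).all fun p => decide (p < 2) || !tp p || okc x.1 p

set_option exponentiation.threshold 7000 in
theorem chk_all : (bdl.all chk) = true := by decide +kernel

theorem ks_all : ((List.range 133).all fun k => decide (k < 7) || (k % 7 != 0 && k % 9 != 0) || Mk k == 1 ||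
    bdl.any fun x => x.1 == k) = true := by decide +kernel

theorem exl_prime : (exl.all fun x => decide (x.2.2.Prime)) = true := by decide +kernel

theorem mem_sps : ∀ r < 134, r.Prime → r ∈ sps := by decide +kernel

theorem Mk_big {k : ℕ} (hk : 133 ≤ k) : Mk k = 1 := by
  have h : Sk k = [] := by
    unfold Sk
    rw [List.filter_eq_nil_iff]
    intro r hr h
    simp only [Bool.and_eq_true, decide_eq_true_eq, beq_iff_eq] at h
    have h2 := (sps_prime r hr).two_le
    rcases Nat.lt_or_ge r k with h3 | h3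
    · rw [Nat.mod_eq_of_lt h3] at h
      omega
    · obtain rfl : r = k := by omega
      rw [Nat.mod_self] at h
      omega
  unfold Mk
  rw [h, List.prod_nil]

theorem exc_of {k p m : ℕ} (hp : p.Prime) (hk : 7 ∣ k ∨ 9 ∣ k) (hk0 : 0 < k) (hm : m ∣ PP p k) (hm2 : PP p k ≤ m ^ 2)
    (hsm : ∀ r, r.Prime → r ∣ m → r ≤ 133 ∧ ¬ r ^ 2 ∣ m) :
    (∃ r, (k, p, r) ∈ exl) ∧ ∀ r, (k, p, r) ∈ exl → r ∣ m := by
  have hk7 : 7 ≤ k := by
    rcases hk with h | h
    · exact Nat.le_of_dvd hk0 h
    · exact (show 7 ≤ 9 by norm_num).trans (Nat.le_of_dvd hk0 h)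
  have hP := one_lt_PP (k := k) hp.two_le (by omega) (by omega)
  have hm0 : 0 < m := Nat.pos_of_ne_zero fun h => by
    rw [h] at hm2
    omega
  have hmM : m ∣ Mk k := by
    rw [Nat.dvd_iff_prime_pow_dvd_dvd]
    intro r j hr hj
    rcases Nat.eq_zero_or_pos j with rfl | hj0
    · rw [pow_zero]; exact one_dvd _
    have hrm : r ∣ m := (dvd_pow_self r hj0.ne').trans hj
    have hj1 : j = 1 := by
      by_contra h
      exact (hsm r hr hrm).2 ((pow_dvd_pow r (show 2 ≤ j by omega)).trans hj)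
    rw [hj1, pow_one]
    refine List.dvd_prod ?_
    have h1 := (hsm r hr hrm).1
    have h2 := mod_of_prim' hp.two_le (prim_of_dvd_PP hp.two_le (by omega) hr (hrm.trans hm))
    unfold Sk
    rw [List.mem_filter]
    refine ⟨mem_sps r (by omega) hr, ?_⟩
    simp only [Bool.and_eq_true, decide_eq_true_eq, beq_iff_eq]
    refine ⟨h1, ?_⟩
    obtain ⟨c, hc⟩ := h2
    have h3 : r = 1 + k * c := by have := hr.two_le; omega
    rw [h3, Nat.add_mul_mod_self_left, Nat.mod_eq_of_lt (by omega)]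
  have hMk : Mk k ≠ 1 := by
    intro h
    rw [h, Nat.dvd_one] at hmM
    rw [hmM] at hm2
    omega
  have hlt : k < 133 := by
    by_contra h
    exact hMk (Mk_big (by omega))
  have hex : ∃ x ∈ bdl, x.1 = k := by
    have h1 := List.all_eq_true.1 ks_all k (List.mem_range.2 hlt)
    simp only [Bool.or_eq_true, decide_eq_true_eq, Bool.and_eq_true, bne_iff_ne, ne_eq, beq_iff_eq,
      List.any_eq_true] at h1
    rcases h1 with ((h1 | h1) | h1) | h1
    · omega
    · exfalso
      rcases hk with h2 | h2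
      · exact h1.1 (Nat.mod_eq_zero_of_dvd h2)
      · exact h1.2 (Nat.mod_eq_zero_of_dvd h2)
    · exact absurd h1 hMk
    · exact h1
  obtain ⟨⟨k', b⟩, hx, rfl⟩ := hex
  simp only at *
  have hc := List.all_eq_true.1 chk_all _ hx
  unfold chk okk at hc
  simp only [Bool.and_eq_true, decide_eq_true_eq, beq_iff_eq, List.all_eq_true, List.mem_range, Bool.or_eq_true,
    Bool.not_eq_true'] at hc
  obtain ⟨⟨hc1, hc2⟩, hc3⟩ := hc
  have hMk0 : 0 < Mk k' := by
    unfold Mk
    refine List.prod_pos fun r hr => ?_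
    exact (sps_prime r (List.mem_of_mem_filter hr)).pos
  have hmM' := Nat.le_of_dvd hMk0 hmM
  have hPM : PP p k' ≤ (Mk k') ^ 2 := hm2.trans (Nat.pow_le_pow_left hmM' 2)
  -- the bound of `p`
  have hpb : p ≤ b := by
    by_contra hpb
    have h1 := PP_lower (p := p) (e := k') (f := 1) (P := b) hp.two_le (by omega) le_rfl (by omega)
    rw [mul_one] at h1
    exact absurd (h1.trans (Nat.mul_le_mul_right _ hPM)) (not_le.2 hc2)
  have hok : okc k' p = true := by
    rcases hc3 p (by omega) with (h1 | h1) | h1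
    · have := hp.two_le
      omega
    · rw [tp_of_prime hp] at h1
      exact absurd h1 (by decide)
    · exact h1
  have hpc : PP p k' = pc p k' := PP_eq hc1 hp.two_le
  rw [hpc] at hm hm2
  have hg : m ∣ Nat.gcd (Mk k') (pc p k') := Nat.dvd_gcd hmM hm
  have hg0 : 0 < Nat.gcd (Mk k') (pc p k') := Nat.gcd_pos_of_pos_left _ hMk0
  unfold okc at hok
  simp only [Bool.or_eq_true, decide_eq_true_eq, List.any_eq_true, List.all_eq_true, Bool.and_eq_true, beq_iff_eq,
    Bool.not_eq_true', Bool.and_eq_false_iff, beq_eq_false_iff_ne] at hok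
  rcases hok with h1 | ⟨⟨⟨k1, p1, r1⟩, hx1, h2, h3⟩, h4⟩
  · exact absurd (hm2.trans (Nat.pow_le_pow_left (Nat.le_of_dvd hg0 hg) 2)) (not_le.2 h1)
  · simp only at h2 h3
    subst h2 h3
    refine ⟨⟨r1, hx1⟩, fun r hrx => ?_⟩
    have hr : r.Prime := by
      have := List.all_eq_true.1 exl_prime _ hrx
      simpa using this
    by_contra hrm
    rcases h4 _ hrx with h5 | ⟨h4, h5⟩
    · rcases h5 with h5 | h5
      · exact h5 rfl
      · exact h5 rfl
    simp only at h4 h5
    obtain ⟨c, hc⟩ := Nat.dvd_of_mod_eq_zero h4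
    rw [hc, Nat.mul_div_cancel_left _ hr.pos] at h5
    rw [hc] at hg
    have h6 : m ∣ c := (Nat.Coprime.symm ((Nat.Prime.coprime_iff_not_dvd hr).2 hrm)).dvd_of_dvd_mul_left hg
    have hc0 : 0 < c := Nat.pos_of_ne_zero fun h => by
      rw [h, mul_zero] at hc
      omega
    exact absurd (hm2.trans (Nat.pow_le_pow_left (Nat.le_of_dvd hc0 h6) 2)) (not_le.2 h5)

end Cfsg.Agent.H95.Rg
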