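import Cfsg.Agent.H95.Rg.CentG
import Cfsg.Agent.H190.Cov.K128

/-!
# Half classes in `E₆(q)`, `²E₆(q)`, `q ≥ 3`: reducedness (helper95)

`red6` : the pairs `{9, 12}`, `{9, 8}`, `{8, 12}` in `E₆(q)`; `redt6` : the pairs `{18, 12}`, `{18, 8}`, `{8, 12}` in
`²E₆(q)`.
-/

set_option autoImplicit false

namespace Cfsg.Agent.H95.Rg

open Cfsg Cfsg.Agent.OrdDiv Cfsg.Agent.H436 Cfsg.Agent.H902 Cfsg.Agent.H290.ElReg Cfsg.Agent.H290.ElTab
  Cfsg.Agent.H56.Exc Cfsg.Agent.H325.Loc Cfsg.Agent.H563.KG Cfsg.Agent.H325.Cov Cfsg.Agent.H73.Rg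
  Cfsg.Agent.H325.IsoExc Cfsg.Agent.H325.IsoFree Cfsg.Agent.H190.Odd

/-- the orders of the tori of `E₆(q)` -/
def N6 (c q : ℕ) : ℕ :=
  if c = 9 then ncl 9 q else if c = 12 then Ph 12 q * (q ^ 2 + q + 1) else Ph 8 q * (q ^ 2 - 1)

/-- the orders of the tori of `²E₆(q)` -/
def Nt6 (c q : ℕ) : ℕ :=
  if c = 18 then ncl 18 q else if c = 12 then Ph 12 q * (q ^ 2 - q + 1) else Ph 8 q * (q ^ 2 - 1)

/-- the exceptions for the degree 78 -/
def exl6 : List (ℕ × ℕ × ℕ) :=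
  [(8, 2, 17), (8, 3, 41), (9, 2, 73), (12, 2, 13), (12, 3, 73), (12, 29, 37), (12, 29, 61), (12, 97, 37),
    (12, 97, 73), (18, 2, 19), (18, 3, 37), (18, 41, 19), (18, 41, 37), (18, 41, 73)]

/-- the bounds for the degree 78 -/
def bdl6 : List (ℕ × ℕ) :=
  [(8, 380), (9, 54), (12, 2724), (16, 3), (18, 61), (24, 5), (36, 6), (40, 3), (60, 3), (72, 2)]

/-- the data of `E₆` -/
def R6 : RD :=
  ⟨78, .E6, N6, exl6, bdl6, fun k => k % 8 == 0 || k % 9 == 0 || k % 12 == 0, 547 :: 757 :: 1723 :: sps, 3⟩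

/-- the data of `²E₆` -/
def Rt6 : RD := ⟨78, .TE6, Nt6, exl6, bdl6, fun k => k % 8 == 0 || k % 9 == 0 || k % 12 == 0, 547 :: 1723 :: sps, 3⟩

set_option exponentiation.threshold 7000 in
theorem r6_ok : R6.Ok where
  hn := by decide
  chk := by decide +kernel
  ks := by decide +kernel
  pr := by decide +kernel
  ps := by decide +kernel

set_option exponentiation.threshold 7000 in
theorem rt6_ok : Rt6.Ok where
  hn := by decide
  chk := by decide +kernel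
  ks := by decide +kernel
  pr := by decide +kernel
  ps := by decide +kernel

set_option exponentiation.threshold 7000 in
theorem ck6_a : R6.ck 9 12 = true := by decide +kernel

set_option exponentiation.threshold 7000 in
theorem ck6_b : R6.ck 9 8 = true := by decide +kernel

set_option exponentiation.threshold 7000 in
theorem ck6_c : R6.ck 8 12 = true := by decide +kernel

set_option exponentiation.threshold 7000 in
theorem ckt6_a : Rt6.ck 18 12 = true := by decide +kernel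

set_option exponentiation.threshold 7000 in
theorem ckt6_b : Rt6.ck 18 8 = true := by decide +kernel

set_option exponentiation.threshold 7000 in
theorem ckt6_c : Rt6.ck 8 12 = true := by decide +kernel

/-! ### arithmetic -/

/-- the class 9 -/
theorem nb9 {q t : ℕ} (hq : 1 ≤ q) (ht : t.Prime) (h9 : t ∣ ncl 9 q) {k : ℕ} (hk : t ∣ q ^ k - 1) (h3k : ¬ 9 ∣ k) :
    False := by
  have h : Prim q 9 t := prim_of_dvd c9 hq ht h9
  exact h3k ((h.dvd_iff k).1 hk)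

/-- the class 18 -/
theorem nb18 {q t : ℕ} (hq : 1 ≤ q) (ht : t.Prime) (h18 : t ∣ ncl 18 q) {k : ℕ} (hk : t ∣ q ^ k - 1) (h3k : ¬ 18 ∣ k) :
    False := by
  have h : Prim q 18 t := prim_of_dvd c18 hq ht h18
  exact h3k ((h.dvd_iff k).1 hk)

theorem n12_dvd {q : ℕ} (hq : 1 ≤ q) : Ph 12 q * (q ^ 2 + q + 1) ∣ q ^ 12 - 1 := by
  refine dvd_of_cast (c := ((q : ℤ) ^ 2 + 1) * ((q : ℤ) ^ 2 - 1) * ((q : ℤ) ^ 2 - q + 1)) ?_
  rw [cast_sub_one hq, Nat.cast_mul, cast_Ph12 _ hq]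
  push_cast
  ring

theorem nt12_dvd {q : ℕ} (hq : 1 ≤ q) : Ph 12 q * (q ^ 2 - q + 1) ∣ q ^ 12 - 1 := by
  have hle : q ≤ q ^ 2 := Nat.le_self_pow (by norm_num) _
  refine dvd_of_cast (c := ((q : ℤ) ^ 2 + 1) * ((q : ℤ) ^ 2 - 1) * ((q : ℤ) ^ 2 + q + 1)) ?_
  rw [cast_sub_one hq, Nat.cast_mul, cast_Ph12 _ hq, Nat.cast_add, Nat.cast_sub hle]
  push_cast
  ring

theorem n8_dvd {q : ℕ} (hq : 1 ≤ q) : Ph 8 q * (q ^ 2 - 1) ∣ q ^ 8 - 1 := by
  refine dvd_of_cast (c := ((q : ℤ) ^ 2 + 1)) ?_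
  rw [cast_sub_one hq, Nat.cast_mul, cast_Ph8, cast_sub_one hq]
  ring

/-- the classes 8 and 12 of `E₆`: the common prime is 3 -/
theorem nb8 {q t : ℕ} (hq : 2 ≤ q) (ht : t.Prime) (h8 : t ∣ Ph 8 q * (q ^ 2 - 1)) (h12 : t ∣ Ph 12 q * (q ^ 2 + q + 1)) :
    t = 3 ∧ 3 ∣ q - 1 := by
  have hq1 : 1 ≤ q := by omega
  have e8 := h8.trans (n8_dvd hq1)
  have e12 := h12.trans (n12_dvd hq1)
  have n8 : ¬ Prim q 8 t := fun h => absurd ((h.dvd_iff 12).1 e12) (by norm_num)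
  have hA : t ∣ q ^ 2 + q + 1 := by
    refine (ht.dvd_mul.1 h12).resolve_left fun h => ?_
    rw [← ncl12_eq] at h
    exact absurd (((prim_of_dvd c12 hq1 ht h).dvd_iff 8).1 e8) (by norm_num)
  have h3 : t = 3 := by
    by_contra h3
    exact not8_plus hq ht h3 hA n8 h8
  subst h3
  refine ⟨rfl, ?_⟩
  have h5 : (q : ZMod 3) = 1 := by
    rw [← ZMod.natCast_eq_zero_iff] at hA
    push_cast at hA
    generalize (q : ZMod 3) = x at hA ⊢
    revert x; decide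
  rw [← ZMod.natCast_eq_zero_iff, Nat.cast_sub hq1, h5, Nat.cast_one, sub_self]

/-- the classes 8 and 12 of `²E₆`: the common prime is 3 -/
theorem nbt8 {q t : ℕ} (hq : 2 ≤ q) (ht : t.Prime) (h8 : t ∣ Ph 8 q * (q ^ 2 - 1))
    (h12 : t ∣ Ph 12 q * (q ^ 2 - q + 1)) : t = 3 ∧ 3 ∣ q + 1 := by
  have hq1 : 1 ≤ q := by omega
  have hle : q ≤ q ^ 2 := Nat.le_self_pow (by norm_num) q
  have e8 := h8.trans (n8_dvd hq1)
  have e12 := h12.trans (nt12_dvd hq1)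
  have n8 : ¬ Prim q 8 t := fun h => absurd ((h.dvd_iff 12).1 e12) (by norm_num)
  have hA : t ∣ q ^ 2 - q + 1 := by
    refine (ht.dvd_mul.1 h12).resolve_left fun h => ?_
    rw [← ncl12_eq] at h
    exact absurd (((prim_of_dvd c12 hq1 ht h).dvd_iff 8).1 e8) (by norm_num)
  have h3 : t = 3 := by
    by_contra h3
    exact not8_minus hq ht h3 hA n8 h8
  subst h3
  refine ⟨rfl, ?_⟩
  have h5 : (q : ZMod 3) = 2 := by
    rw [← ZMod.natCast_eq_zero_iff] at hA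
    push_cast [Nat.cast_sub hle] at hA
    generalize (q : ZMod 3) = x at hA ⊢
    revert x; decide
  rw [← ZMod.natCast_eq_zero_iff]
  push_cast
  rw [h5]
  decide

theorem kp6 {f c : ℕ} (hc : c = 8 ∨ c = 9 ∨ c = 12 ∨ c = 18) :
    (f * c % 8 == 0 || f * c % 9 == 0 || f * c % 12 == 0) = true := by
  rcases hc with rfl | rfl | rfl | rfl
  · rw [Nat.mul_mod_left]; simp
  · rw [Nat.mul_mod_left]; simp
  · rw [Nat.mul_mod_left]; simp
  · have : f * 18 % 9 = 0 := by omega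
    rw [this]; simp

/-! ### the groups -/

section

variable {F : Type} [Field F] [Fintype F] {p f : ℕ}

theorem ord6 {q c : ℕ} (hc : c = 9 ∨ c = 12 ∨ c = 8) (hq : Fintype.card F = q) :
    Ord ↥(Lie.chevE6.group F) q c (N6 c q) := by
  have hq1 : 1 ≤ q := by rw [← hq]; exact Fintype.card_pos
  rcases hc with rfl | rfl | rfl
  · intro r hr x hx
    show _ ∣ ncl 9 q
    rw [← ncl9_eq hq1]
    exact (Cfsg.Agent.H190.Exc.e6_9 hq hr).2 x hx
  · exact fun r hr x hx => (big_E6_12 hq (m := Ph 12 q * (q ^ 2 + q + 1)) (by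
      rw [Nat.cast_mul, cast_Ph12 _ hq1]; push_cast; ring) hr).card x hx
  · exact fun r hr x hx => (big_E6_8 hq (m := Ph 8 q * (q ^ 2 - 1)) (by
      rw [Nat.cast_mul, cast_Ph8, cast_sub_one hq1]; ring) hr).card x hx

theorem ordt6 {q c : ℕ} (hc : c = 18 ∨ c = 12 ∨ c = 8) (hq : IsPrimePow q) (hK : Fintype.card F = q ^ 2) :
    Ord ↥(Lie.twistedE6 F q) q c (Nt6 c q) := by
  have hq1 : 1 ≤ q := by have := hq.two_le; omega
  have hle : q ≤ q ^ 2 := Nat.le_self_pow (by norm_num) q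
  rcases hc with rfl | rfl | rfl
  · intro r hr x hx
    show _ ∣ ncl 18 q
    rw [← ncl18_eq hq1]
    exact (Cfsg.Agent.H190.Exc.te6_18 hq hK hr).2 x hx
  · exact fun r hr x hx => (big_TE6_12 hq hK (m := Ph 12 q * (q ^ 2 - q + 1)) (by
      rw [Nat.cast_mul, cast_Ph12 _ hq1, Nat.cast_add, Nat.cast_sub hle]; push_cast; ring) hr).card x hx
  · exact fun r hr x hx => (big_TE6_8 hq hK (m := Ph 8 q * (q ^ 2 - 1)) (by
      rw [Nat.cast_mul, cast_Ph8, cast_sub_one hq1]; ring) hr).card x hx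

/-- no common prime in `E₆(q)` -/
theorem nb6 {q t r r' c c' : ℕ} (hcc : (c, c') ∈ [(9, 12), (9, 8), (8, 12)]) (hq : Fintype.card F = q) (ht : t.Prime)
    (hr : Prim q c r) (hr' : Prim q c' r') {x x' : ↥(Lie.chevE6.group F)} (hx : orderOf x = r) (hx' : orderOf x' = r')
    (h1 : t ∣ Nat.card ↥(Subgroup.centralizer ({x} : Set ↥(Lie.chevE6.group F))))
    (h2 : t ∣ Nat.card ↥(Subgroup.centralizer ({x'} : Set ↥(Lie.chevE6.group F)))) : False := by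
  have hq2 : 2 ≤ q := by rw [← hq]; exact Fintype.one_lt_card
  have hq1 : 1 ≤ q := by omega
  simp only [List.mem_cons, Prod.mk.injEq, List.not_mem_nil, or_false] at hcc
  rcases hcc with ⟨rfl, rfl⟩ | ⟨rfl, rfl⟩ | ⟨rfl, rfl⟩
  · have a1 : t ∣ ncl 9 q := h1.trans (ord6 (c := 9) (by omega) hq r hr x hx)
    have a2 : t ∣ Ph 12 q * (q ^ 2 + q + 1) := h2.trans (ord6 (c := 12) (by omega) hq r' hr' x' hx')
    exact nb9 hq1 ht a1 (a2.trans (n12_dvd hq1)) (by norm_num)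
  · have a1 : t ∣ ncl 9 q := h1.trans (ord6 (c := 9) (by omega) hq r hr x hx)
    have a2 : t ∣ Ph 8 q * (q ^ 2 - 1) := h2.trans (ord6 (c := 8) (by omega) hq r' hr' x' hx')
    exact nb9 hq1 ht a1 (a2.trans (n8_dvd hq1)) (by norm_num)
  · have a1 : t ∣ Ph 8 q * (q ^ 2 - 1) := h1.trans (ord6 (c := 8) (by omega) hq r hr x hx)
    have a2 : t ∣ Ph 12 q * (q ^ 2 + q + 1) := h2.trans (ord6 (c := 12) (by omega) hq r' hr' x' hx')
    obtain ⟨rfl, h3⟩ := nb8 hq2 ht a1 a2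
    exact (exact_e6_12 hq h3 hr' hx').2 h2

/-- no common prime in `²E₆(q)` -/
theorem nbt6 {q t r r' c c' : ℕ} (hcc : (c, c') ∈ [(18, 12), (18, 8), (8, 12)]) (hq : IsPrimePow q)
    (hK : Fintype.card F = q ^ 2) (ht : t.Prime)
    (hr : Prim q c r) (hr' : Prim q c' r') {x x' : ↥(Lie.twistedE6 F q)} (hx : orderOf x = r) (hx' : orderOf x' = r')
    (h1 : t ∣ Nat.card ↥(Subgroup.centralizer ({x} : Set ↥(Lie.twistedE6 F q))))
    (h2 : t ∣ Nat.card ↥(Subgroup.centralizer ({x'} : Set ↥(Lie.twistedE6 F q)))) : False := by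
  have hq2 : 2 ≤ q := hq.two_le
  have hq1 : 1 ≤ q := by omega
  simp only [List.mem_cons, Prod.mk.injEq, List.not_mem_nil, or_false] at hcc
  rcases hcc with ⟨rfl, rfl⟩ | ⟨rfl, rfl⟩ | ⟨rfl, rfl⟩
  · have a1 : t ∣ ncl 18 q := h1.trans (ordt6 (c := 18) (by omega) hq hK r hr x hx)
    have a2 : t ∣ Ph 12 q * (q ^ 2 - q + 1) := h2.trans (ordt6 (c := 12) (by omega) hq hK r' hr' x' hx')
    exact nb18 hq1 ht a1 (a2.trans (nt12_dvd hq1)) (by norm_num)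
  · have a1 : t ∣ ncl 18 q := h1.trans (ordt6 (c := 18) (by omega) hq hK r hr x hx)
    have a2 : t ∣ Ph 8 q * (q ^ 2 - 1) := h2.trans (ordt6 (c := 8) (by omega) hq hK r' hr' x' hx')
    exact nb18 hq1 ht a1 (a2.trans (n8_dvd hq1)) (by norm_num)
  · have a1 : t ∣ Ph 8 q * (q ^ 2 - 1) := h1.trans (ordt6 (c := 8) (by omega) hq hK r hr x hx)
    have a2 : t ∣ Ph 12 q * (q ^ 2 - q + 1) := h2.trans (ordt6 (c := 12) (by omega) hq hK r' hr' x' hx')
    obtain ⟨rfl, h3⟩ := nbt8 hq2 ht a1 a2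
    exact (exact_te6_12 hq hK h3 hr' hx').2 h2

/-- the predicate of the primes does not depend on the other data -/
theorem red_fmH {G : Type*} [Group G] {fam : List ℕ} {M E M' E' : ℕ → ℕ} {N : ℕ} (h : Red G (Pr (FmH p f fam M E N))) :
    Red G (Pr (FmH p f fam M' E' N)) := fun K hK hKr =>
  h K hK fun r hr => hKr r (pr_fmH.2 (pr_fmH.1 hr))

/-- the orders of the tori -/
def MM6 (q c : ℕ) : ℕ :=
  if c = 9 then Ph 9 q else if c = 12 then Ph 12 q * (q ^ 2 + q + 1) else Ph 8 q * (q ^ 2 - 1)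

/-- the orders of the tori -/
def MMt6 (q c : ℕ) : ℕ :=
  if c = 18 then Ph 18 q else if c = 12 then Ph 12 q * (q ^ 2 - q + 1) else Ph 8 q * (q ^ 2 - 1)

/-- the automizers -/
def EEt6 (c : ℕ) : ℕ := if c = 18 then 9 else c

theorem bigg6 {q c r : ℕ} (hc : c = 9 ∨ c = 12 ∨ c = 8) (hq : Fintype.card F = q) (hr : Prim q c r) :
    Big ↥(Lie.chevE6.group F) r (MM6 q c) c := by
  have hq1 : 1 ≤ q := by rw [← hq]; exact Fintype.card_pos
  rcases hc with rfl | rfl | rfl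
  · exact big_E6_9 hq (m := Ph 9 q) (by rw [cast_Ph9]; ring) hr
  · exact big_E6_12 hq (m := Ph 12 q * (q ^ 2 + q + 1)) (by
      rw [Nat.cast_mul, cast_Ph12 _ hq1]; push_cast; ring) hr
  · exact big_E6_8 hq (m := Ph 8 q * (q ^ 2 - 1)) (by
      rw [Nat.cast_mul, cast_Ph8, cast_sub_one hq1]; ring) hr

theorem biggt6 {q c r : ℕ} (hc : c = 18 ∨ c = 12 ∨ c = 8) (hq : IsPrimePow q) (hK : Fintype.card F = q ^ 2)
    (hr : Prim q c r) : Big ↥(Lie.twistedE6 F q) r (MMt6 q c) (EEt6 c) := by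
  have hq1 : 1 ≤ q := by have := hq.two_le; omega
  have hle : q ≤ q ^ 2 := Nat.le_self_pow (by norm_num) q
  rcases hc with rfl | rfl | rfl
  · exact big_TE6_18 hq hK (m := Ph 18 q) (by rw [cast_Ph18 _ hq1]; ring) hr
  · exact big_TE6_12 hq hK (m := Ph 12 q * (q ^ 2 - q + 1)) (by
      rw [Nat.cast_mul, cast_Ph12 _ hq1, Nat.cast_add, Nat.cast_sub hle]; push_cast; ring) hr
  · exact big_TE6_8 hq hK (m := Ph 8 q * (q ^ 2 - 1)) (by
      rw [Nat.cast_mul, cast_Ph8, cast_sub_one hq1]; ring) hr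

/-- **`E₆(q)`, `q ≥ 3`: reducedness.** -/
theorem red6 (hcyc : CycFixSolv.{0}) (hp : p.Prime) (hf : 1 ≤ f) [CharP F p] (hq : Fintype.card F = p ^ f)
    (hq3 : 3 ≤ p ^ f) (hdT : Nat.card ↥(Lie.chevE6.group F) ∣ OL .E6 (p ^ f)) {c c' : ℕ}
    (hcc : (c, c') ∈ [(9, 12), (9, 8), (8, 12)]) {M E : ℕ → ℕ} {B : Subgroup ↥(Lie.chevE6.group F)}
    (h : HAt p f c B) (h' : HAt p f c' B) : Red ↥B (Pr (FmH p f [c, c'] M E (Nat.card B))) := by
  have := Fact.mk hp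
  have hfin : Finite ↥(Lie.chevE6.group F) := inferInstance
  have hck : R6.ck c c' = true := by
    simp only [List.mem_cons, Prod.mk.injEq, List.not_mem_nil, or_false] at hcc
    rcases hcc with ⟨rfl, rfl⟩ | ⟨rfl, rfl⟩ | ⟨rfl, rfl⟩
    · exact ck6_a
    · exact ck6_b
    · exact ck6_c
  have hcm : ((c = 9 ∨ c = 12 ∨ c = 8) ∧ (c' = 9 ∨ c' = 12 ∨ c' = 8)) ∧ (c = 9 ∨ c' = 12) := by
    have h1 : ∀ x ∈ [((9, 12) : ℕ × ℕ), (9, 8), (8, 12)], ((x.1 = 9 ∨ x.1 = 12 ∨ x.1 = 8) ∧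
      (x.2 = 9 ∨ x.2 = 12 ∨ x.2 = 8)) ∧ (x.1 = 9 ∨ x.2 = 12) := by decide
    exact h1 _ hcc
  have hmem : ∀ e ∈ [c, c'], e = 9 ∨ e = 12 ∨ e = 8 := by
    intro e he
    simp only [List.mem_cons, List.not_mem_nil, or_false] at he
    rcases he with rfl | rfl
    · exact hcm.1.1
    · exact hcm.1.2
  have hsq : ∀ e, (e = 9 ∨ e = 12 ∨ e = 8) → R6.n < (e + 1) ^ 2 := by
    rintro e (rfl | rfl | rfl) <;> decide
  have key : ∀ c₀ ∈ [c, c'], HAt p f c₀ B → (c₀ = 9 ∨ c₀ = 12) → Red ↥B (Pr (FmH p f [c, c'] M E (Nat.card B))) := by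
    intro c₀ hc₀ hH h3
    obtain ⟨r₀, hr₀, hr₀B⟩ := hH.exists_prim hp.two_le hf (by omega) (by omega)
    have hpiso : PIso p r₀ ↥(Lie.chevE6.group F) := by
      rcases h3 with rfl | rfl
      · exact piso_E6 (F := F) (by rw [hq]; exact prim_q hf hr₀)
      · exact piso_E6_12 (F := F) (by rw [hq]; exact prim_q hf hr₀)
    refine red_fmH (redG (M := MM6 (p ^ f)) (E := fun c => c) hcyc r6_ok hp hf hq3 (F := F) fth_E6 hdT hck
      (by have := hcm.1.1; omega) (by have := hcm.1.2; omega) (hsq c hcm.1.1) (hsq c' hcm.1.2)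
      (kp6 (by have := hcm.1.1; omega)) (kp6 (by have := hcm.1.2; omega)) (fun e he r hr => bigg6 (hmem e he) hq hr)
      (fun e he => ord6 (hmem e he) hq) (fun t r r' ht _ hr hr' x x' hx hx' h1 h2 => nb6 hcc hq ht hr hr' hx hx' h1 h2)
      h h' hc₀ hr₀ hpiso hr₀B)
  rcases hcm.2 with h3 | h3
  · exact key c (by simp) h (Or.inl h3)
  · exact key c' (by simp) h' (Or.inr h3)

/-- **`²E₆(q)`, `q ≥ 3`: reducedness.** -/
theorem redt6 (hcyc : CycFixSolv.{0}) (hp : p.Prime) (hf : 1 ≤ f) [CharP F p] (hK : Fintype.card F = (p ^ f) ^ 2)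
    (hq3 : 3 ≤ p ^ f) (hdT : Nat.card ↥(Lie.twistedE6 F (p ^ f)) ∣ OL .TE6 (p ^ f)) {c c' : ℕ}
    (hcc : (c, c') ∈ [(18, 12), (18, 8), (8, 12)]) {M E : ℕ → ℕ} {B : Subgroup ↥(Lie.twistedE6 F (p ^ f))}
    (h : HAt p f c B) (h' : HAt p f c' B) : Red ↥B (Pr (FmH p f [c, c'] M E (Nat.card B))) := by
  have := Fact.mk hp
  have hfin : Finite ↥(Lie.twistedE6 F (p ^ f)) := inferInstance
  have hq : IsPrimePow (p ^ f) := hp.isPrimePow.pow (by omega)
  have hck : Rt6.ck c c' = true := by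
    simp only [List.mem_cons, Prod.mk.injEq, List.not_mem_nil, or_false] at hcc
    rcases hcc with ⟨rfl, rfl⟩ | ⟨rfl, rfl⟩ | ⟨rfl, rfl⟩
    · exact ckt6_a
    · exact ckt6_b
    · exact ckt6_c
  have hcm : ((c = 18 ∨ c = 12 ∨ c = 8) ∧ (c' = 18 ∨ c' = 12 ∨ c' = 8)) ∧ (c = 18 ∨ c' = 12) := by
    have h1 : ∀ x ∈ [((18, 12) : ℕ × ℕ), (18, 8), (8, 12)], ((x.1 = 18 ∨ x.1 = 12 ∨ x.1 = 8) ∧
      (x.2 = 18 ∨ x.2 = 12 ∨ x.2 = 8)) ∧ (x.1 = 18 ∨ x.2 = 12) := by decide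
    exact h1 _ hcc
  have hmem : ∀ e ∈ [c, c'], e = 18 ∨ e = 12 ∨ e = 8 := by
    intro e he
    simp only [List.mem_cons, List.not_mem_nil, or_false] at he
    rcases he with rfl | rfl
    · exact hcm.1.1
    · exact hcm.1.2
  have hsq : ∀ e, (e = 18 ∨ e = 12 ∨ e = 8) → Rt6.n < (e + 1) ^ 2 := by
    rintro e (rfl | rfl | rfl) <;> decide
  have key : ∀ c₀ ∈ [c, c'], HAt p f c₀ B → (c₀ = 18 ∨ c₀ = 12) → Red ↥B (Pr (FmH p f [c, c'] M E (Nat.card B))) := by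
    intro c₀ hc₀ hH h3
    obtain ⟨r₀, hr₀, hr₀B⟩ := hH.exists_prim hp.two_le hf (by omega) (by omega)
    have hpiso : PIso p r₀ ↥(Lie.twistedE6 F (p ^ f)) := by
      rcases h3 with rfl | rfl
      · exact piso_twE6 hq hK (Or.inr rfl) (prim_q hf hr₀)
      · exact piso_twE6 hq hK (Or.inl rfl) (prim_q hf hr₀)
    refine red_fmH (redG (M := MMt6 (p ^ f)) (E := EEt6) hcyc rt6_ok hp hf hq3 (F := F) (fth_TE6 _) hdT hck
      (by have := hcm.1.1; omega) (by have := hcm.1.2; omega) (hsq c hcm.1.1) (hsq c' hcm.1.2)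
      (kp6 (by have := hcm.1.1; omega)) (kp6 (by have := hcm.1.2; omega))
      (fun e he r hr => biggt6 (hmem e he) hq hK hr)
      (fun e he => ordt6 (hmem e he) hq hK)
      (fun t r r' ht _ hr hr' x x' hx hx' h1 h2 => nbt6 hcc hq hK ht hr hr' hx hx' h1 h2) h h' hc₀ hr₀ hpiso hr₀B)
  rcases hcm.2 with h3 | h3
  · exact key c (by simp) h (Or.inl h3)
  · exact key c' (by simp) h' (Or.inr h3)

end

end Cfsg.Agent.H95.Rg
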