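import Cfsg.Agent.H95.Rg.CentH
import Cfsg.Agent.H73.Rg.HCore

/-!
# Half classes in `E₇(q)`: reducedness (helper95)

`red7` : a subgroup of `E₇(q)` containing half of the two classes of one of the pairs `{9, 14}`, `{18, 7}`, `{18, 14}`,
`{9, 18}`, `{7, 14}` has no nontrivial normal subgroup of order prime to the primes of the two classes dividing its order.
-/

set_option autoImplicit false

namespace Cfsg.Agent.H95.Rg

open Cfsg Cfsg.Agent.OrdDiv Cfsg.Agent.H436 Cfsg.Agent.H902 Cfsg.Agent.H290.ElReg Cfsg.Agent.H290.ElTab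
  Cfsg.Agent.H56.Exc Cfsg.Agent.H325.Loc Cfsg.Agent.H563.KG Cfsg.Agent.H325.Cov Cfsg.Agent.H73.Rg
  Cfsg.Agent.H325.IsoExc Cfsg.Agent.H325.IsoFree

/-! ### tables -/

/-- `r` divides no `t ^ k - 1` with `t ^ k` dividing the order of `E₇(q)` -/
def Bdk (r t q : ℕ) : Bool :=
  !(OL .E7 q % t ^ 51 == 0) && (List.range 50).all fun j =>
    !(OL .E7 q % t ^ (j + 1) == 0) || !((t ^ (j + 1) - 1) % r == 0)

theorem bdk_spec {r t q : ℕ} (h : Bdk r t q = true) {k : ℕ} (hk : 0 < k) (hd : t ^ k ∣ OL .E7 q) : ¬ r ∣ t ^ k - 1 := by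
  unfold Bdk at h
  simp only [Bool.and_eq_true, Bool.not_eq_true', beq_eq_false_iff_ne, List.all_eq_true, List.mem_range,
    Bool.or_eq_true] at h
  obtain ⟨h1, h2⟩ := h
  have hk51 : k ≤ 50 := by
    by_contra hcon
    exact h1 (Nat.mod_eq_zero_of_dvd ((pow_dvd_pow t (show 51 ≤ k by omega)).trans hd))
  rcases h2 (k - 1) (by omega) with h3 | h3
  · rw [show k - 1 + 1 = k by omega] at h3
    exact absurd (Nat.mod_eq_zero_of_dvd hd) h3
  · rw [show k - 1 + 1 = k by omega] at h3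
    exact fun h4 => h3 (Nat.mod_eq_zero_of_dvd h4)

/-- the orders of the maximal tori of the simple group -/
def Nn (c q : ℕ) : ℕ := M7 q c / Nat.gcd 2 (q - 1)

/-- the product of the small primes -/
def psp : ℕ := sps.prod

theorem mem_of_dvd_psp {t a n : ℕ} (ht : t.Prime) (h : psp ^ a % n = 0) (hn : t ∣ n) : t ∈ sps := by
  have h1 : t ∣ psp := ht.dvd_of_dvd_pow (hn.trans (Nat.dvd_of_mod_eq_zero h))
  unfold psp at h1
  rw [Prime.dvd_prod_iff ht.prime] at h1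
  obtain ⟨l, hl, hd⟩ := h1
  rwa [(Nat.prime_dvd_prime_iff_eq ht (sps_prime l hl)).1 hd]

/-- some prime of the list moves no `t`-subgroup -/
def Bde (k p t q : ℕ) : Bool := exl.any fun y => y.1 == k && y.2.1 == p && Bdk y.2.2 t q

/-- the check when the class `c'` centralises -/
def ck1 (c c' : ℕ) : Bool := exl.all fun x => !(x.1 % c == 0) || (
  let f := x.1 / c
  let q := x.2.1 ^ f
  let P := pc x.2.1 (f * c')
  let R := Nn c' q / P
  okk (f * c') && Nn c' q == R * P && psp ^ 10 % R == 0 && sps.all fun t => !(R % t == 0) || Bde x.1 x.2.1 t q)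

/-- the check when no class centralises -/
def ck2 (c c' : ℕ) : Bool := exl.all fun x => exl.all fun y =>
  !(x.1 % c == 0 && y.1 % c' == 0 && x.1 / c == y.1 / c' && x.2.1 == y.2.1) || (
  let f := x.1 / c
  let q := x.2.1 ^ f
  okk (f * c) && okk (f * c') && psp ^ 200 % OL .E7 q == 0 && sps.all fun t => !(OL .E7 q % t == 0) ||
    t == x.2.1 || pc x.2.1 (f * c) % t == 0 || pc x.2.1 (f * c') % t == 0 || Bde x.1 x.2.1 t q || Bde y.1 y.2.1 t q)

/-- the pairs of classes -/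
def prs5 : List (ℕ × ℕ) := [(9, 14), (18, 7), (18, 14), (9, 18), (7, 14)]

set_option exponentiation.threshold 7000 in
theorem ck_all : (prs5.all fun x => ck1 x.1 x.2 && ck1 x.2 x.1 && ck2 x.1 x.2) = true := by decide +kernel

/-! ### arithmetic of the tori -/

theorem m14_dvd {q : ℕ} (hq : 1 ≤ q) : M7 q 14 ∣ q ^ 7 + 1 := by
  show (q + 1) * Ph 14 q ∣ _
  rw [← Int.natCast_dvd_natCast, Nat.cast_mul, cast_Ph14 _ hq]
  push_cast
  exact ⟨1, by ring⟩

theorem m18_dvd {q : ℕ} (hq : 1 ≤ q) : M7 q 18 ∣ q ^ 9 + 1 := by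
  show (q + 1) * Ph 18 q ∣ _
  rw [← Int.natCast_dvd_natCast, Nat.cast_mul, cast_Ph18 _ hq]
  push_cast
  exact ⟨(q : ℤ) ^ 2 - q + 1, by ring⟩

theorem dvd_m7 {q t c : ℕ} (hq : 1 ≤ q) (ht : t.Prime) (hc : c = 7 ∨ c = 9 ∨ c = 14 ∨ c = 18) (h : t ∣ Nn c q) :
    t ∣ M7 q c := by
  have hd : Nat.gcd 2 (q - 1) ∣ q - 1 := Nat.gcd_dvd_right _ _
  have hd' : Nat.gcd 2 (q - 1) ∣ q + 1 := by
    have h3 : q + 1 = (q - 1) + 2 := by omega
    rw [h3]
    exact dvd_add hd (Nat.gcd_dvd_left _ _)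
  rcases hc with rfl | rfl | rfl | rfl
  · exact half_dvd ht h hd
  · exact half_dvd ht h hd
  · exact half_dvd ht h hd'
  · exact half_dvd ht h hd'

theorem nb {q t c c' : ℕ} (hq : 1 ≤ q) (ht : t.Prime) (hc : c = 7 ∨ c = 9) (hc' : c' = 14 ∨ c' = 18)
    (ht2 : t = 2 → Odd q) (h : t ∣ Nn c q) (h' : t ∣ Nn c' q) : False := by
  by_cases h2 : t = 2
  · subst h2
    have ho := ht2 rfl
    have e1 : 2 ∣ q - 1 := by obtain ⟨k, hk⟩ := ho; exact ⟨k, by omega⟩
    have e2 : 2 ∣ q + 1 := by obtain ⟨k, hk⟩ := ho; exact ⟨k + 1, by omega⟩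
    have key : ∀ {e e' : ℕ}, (e = 7 ∨ e = 9 ∨ e = 14 ∨ e = 18) → (e' = 7 ∨ e' = 9 ∨ e' = 14 ∨ e' = 18) →
        2 ∣ (q - 1) * Ph e q / Nat.gcd 2 (q - 1) → 2 ∣ (q + 1) * Ph e' q / Nat.gcd 2 (q - 1) → False :=
      fun he he' h h' => no_both hq ht (fun _ => ho) (fun ho => ph_odd hq ho he) (fun ho => ph_odd hq ho he')
        (fun _ => e1) (fun _ => e2) h h'
    rcases hc with rfl | rfl <;> rcases hc' with rfl | rfl
    · exact key (by omega) (by omega) h h'
    · exact key (by omega) (by omega) h h'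
    · exact key (by omega) (by omega) h h'
    · exact key (by omega) (by omega) h h'
  · have := Fact.mk ht
    have h1 := (dvd_m7 hq ht (by omega) h).trans (m7_dvd (by omega) hq)
    have h3 : ((q : ZMod t)) ^ c = 1 := by
      rw [← ZMod.natCast_eq_zero_iff, Nat.cast_sub (Nat.one_le_pow _ _ hq)] at h1
      push_cast at h1
      exact sub_eq_zero.1 h1
    have h4 : ∃ b, ((q : ZMod t)) ^ b = -1 := by
      rcases hc' with rfl | rfl
      · refine ⟨7, ?_⟩
        have h5 := (dvd_m7 hq ht (by omega) h').trans (m14_dvd hq)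
        rw [← ZMod.natCast_eq_zero_iff] at h5
        push_cast at h5
        exact eq_neg_of_add_eq_zero_left h5
      · refine ⟨9, ?_⟩
        have h5 := (dvd_m7 hq ht (by omega) h').trans (m18_dvd hq)
        rw [← ZMod.natCast_eq_zero_iff] at h5
        push_cast at h5
        exact eq_neg_of_add_eq_zero_left h5
    obtain ⟨b, hb⟩ := h4
    have h5 : (1 : ZMod t) = -1 := by
      calc (1 : ZMod t) = ((q : ZMod t) ^ c) ^ b := by rw [h3, one_pow]
        _ = ((q : ZMod t) ^ b) ^ c := by rw [← pow_mul, ← pow_mul, mul_comm]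
        _ = (-1) ^ c := by rw [hb]
        _ = -1 := by rcases hc with rfl | rfl <;> norm_num
    have h6 : ((2 : ℕ) : ZMod t) = 0 := by
      have h7 : (1 : ZMod t) + 1 = 0 := by
        nth_rewrite 1 [h5]
        ring
      push_cast
      rw [← h7]
      norm_num
    rw [ZMod.natCast_eq_zero_iff] at h6
    exact h2 ((Nat.prime_dvd_prime_iff_eq ht Nat.prime_two).1 h6)

theorem add_of_both {q t : ℕ} (hq : 1 ≤ q) (ht : t.Prime) (h14 : t ∣ Nn 14 q) (h18 : t ∣ Nn 18 q) : t ∣ q + 1 := by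
  have := Fact.mk ht
  have h1 := (dvd_m7 hq ht (by omega) h14).trans (m14_dvd hq)
  have h2 := (dvd_m7 hq ht (by omega) h18).trans (m18_dvd hq)
  rw [← ZMod.natCast_eq_zero_iff] at h1 h2 ⊢
  push_cast at h1 h2 ⊢
  have h3 : ((q : ZMod t)) ^ 7 = -1 := eq_neg_of_add_eq_zero_left h1
  have h4 : ((q : ZMod t)) ^ 9 = -1 := eq_neg_of_add_eq_zero_left h2
  have h5 : ((q : ZMod t)) ^ 2 = 1 := by
    have h6 : ((q : ZMod t)) ^ 9 = (q : ZMod t) ^ 7 * (q : ZMod t) ^ 2 := by ring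
    rw [h4, h3] at h6
    have h7 : -(-1 : ZMod t) = -(-1 * (q : ZMod t) ^ 2) := by rw [← h6]
    have h8 : -(-1 * (q : ZMod t) ^ 2) = (q : ZMod t) ^ 2 := by ring
    rw [h8, neg_neg] at h7
    exact h7.symm
  have h6 : ((q : ZMod t)) ^ 7 = (q : ZMod t) := by
    calc ((q : ZMod t)) ^ 7 = (q : ZMod t) * ((q : ZMod t) ^ 2) ^ 3 := by ring
      _ = (q : ZMod t) := by rw [h5, one_pow, mul_one]
  rw [← h6, h3]
  ring

/-! ### the groups -/

/-- an element of prime order of the class `c` centralises `A` -/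
def Zc (q c : ℕ) {T : Type} [Group T] {B : Subgroup T} (A : Subgroup B) : Prop :=
  ∃ r, Prim q c r ∧ ∃ x : B, orderOf x = r ∧ ∀ a ∈ A, x * a = a * x

section

variable {F : Type} [Field F] [Fintype F] {p f : ℕ}

theorem ordc {q c : ℕ} (hc : c = 7 ∨ c = 9 ∨ c = 14 ∨ c = 18) (hq : Fintype.card F = q) :
    Ord ↥(Lie.chevE7.group F) q c (Nn c q) := by
  rcases hc with rfl | rfl | rfl | rfl
  · exact ord7 hq
  · exact ord9 hq
  · exact ord14 hq
  · exact ord18 hq

theorem zc_dvd {q c t : ℕ} (hc : c = 7 ∨ c = 9 ∨ c = 14 ∨ c = 18) (hq : Fintype.card F = q)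
    {B : Subgroup ↥(Lie.chevE7.group F)} {A : Subgroup B} {a : B} (haA : a ∈ A) (hat : orderOf a = t) (h : Zc q c A) :
    t ∣ Nn c q := by
  obtain ⟨r, hr, x, hx, hxa⟩ := h
  have h1 := ((ordc hc hq).sub B) r hr x hx
  have h2 : a ∈ Subgroup.centralizer ({x} : Set B) := Subgroup.mem_centralizer_singleton_iff.2 (hxa a haA).symm
  have h3 : orderOf (⟨a, h2⟩ : ↥(Subgroup.centralizer ({x} : Set B))) = t := by
    rw [← Subgroup.orderOf_coe, hat]
  rw [← h3]
  exact (orderOf_dvd_natCard _).trans h1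

theorem z_or (hp : p.Prime) (hf : 1 ≤ f) [CharP F p] (hq : Fintype.card F = p ^ f)
    (hdT : Nat.card ↥(Lie.chevE7.group F) ∣ OL .E7 (p ^ f)) {c : ℕ} (hc : c = 7 ∨ c = 9 ∨ c = 14 ∨ c = 18)
    {B : Subgroup ↥(Lie.chevE7.group F)} (h : HAt p f c B) {t : ℕ} (ht : t.Prime) (htp : t ≠ p)
    (htc : ¬ Prim p (f * c) t) {A : Subgroup B} (hAn : A.Normal) (hA : ∀ a ∈ A, ∀ b ∈ A, a * b = b * a)
    (hAt : ∀ a ∈ A, a ^ t = 1) :
    Zc (p ^ f) c A ∨ ((∃ r, (f * c, p, r) ∈ exl) ∧ ∀ r, (f * c, p, r) ∈ exl → ¬ Bdk r t (p ^ f) = true) := by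
  by_cases hZ : Zc (p ^ f) c A
  · exact Or.inl hZ
  right
  have hfin : Finite ↥(Lie.chevE7.group F) := inferInstance
  have hfc : 1 * c ≤ f * c := Nat.mul_le_mul_right _ hf
  have key : ∀ r, Prim p (f * c) r → r ∣ Nat.card B →
      ¬ (133 < r ^ (Nat.card B).factorization r ∨ ∀ k, 0 < k → t ^ k ∣ Nat.card B → ¬ r ∣ t ^ k - 1) := by
    intro r hr hrB hcon
    exact hZ ⟨r, prim_q hf hr, cent_syl hp (fth_E7 (F := F)) ht htp (fun h => htc (h ▸ hr))
      (big7 hc hq (prim_q hf hr)) hrB hAn hA hAt hcon⟩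
  have hdB : Nat.card ↥B ∣ OL .E7 (p ^ f) := (Subgroup.card_subgroup_dvd_card B).trans hdT
  have hpr : ∀ r, r.Prime → r ∣ Nat.gcd (Nat.card B) (PP p (f * c)) → Prim p (f * c) r ∧ r ∣ Nat.card B :=
    fun r hr hrd => ⟨prim_of_dvd_PP hp.two_le (by omega) hr (hrd.trans (Nat.gcd_dvd_right _ _)),
      hrd.trans (Nat.gcd_dvd_left _ _)⟩
  obtain ⟨h1, h2⟩ := exc_of (k := f * c) hp (by
      rcases hc with rfl | rfl | rfl | rfl
      · exact Or.inl (Dvd.intro_left _ rfl)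
      · exact Or.inr (Dvd.intro_left _ rfl)
      · exact Or.inl ⟨f * 2, by ring⟩
      · exact Or.inr ⟨f * 2, by ring⟩) (by omega) (Nat.gcd_dvd_right (Nat.card B) _) h.half (fun r hr hrd => by
      obtain ⟨h1, h2⟩ := hpr r hr hrd
      have h3 : r ^ (Nat.card B).factorization r ≤ 133 := by
        by_contra hcon
        exact key r h1 h2 (Or.inl (by omega))
      have h4 : 1 ≤ (Nat.card B).factorization r := (hr.dvd_iff_one_le_factorization Nat.card_pos.ne').1 h2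
      refine ⟨?_, fun h5 => ?_⟩
      · calc r = r ^ 1 := (pow_one r).symm
          _ ≤ r ^ (Nat.card B).factorization r := Nat.pow_le_pow_right hr.pos h4
          _ ≤ 133 := h3
      · have h6 : 2 ≤ (Nat.card B).factorization r :=
          (hr.pow_dvd_iff_le_factorization Nat.card_pos.ne').1 (h5.trans (Nat.gcd_dvd_left _ _))
        have h7 : r ^ 2 ≤ 133 := (Nat.pow_le_pow_right hr.pos h6).trans h3
        have h8 := Nat.le_of_dvd (by have := hr.two_le; omega) (mod_of_prim' hp.two_le h1)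
        have h9 : r ≤ 11 := by
          by_contra hcon
          have : 12 * 12 ≤ r * r := Nat.mul_le_mul (by omega) (by omega)
          rw [sq] at h7
          omega
        have h10 : c ∣ r - 1 := (Dvd.intro_left _ rfl).trans (mod_of_prim' hp.two_le h1)
        have h11 : r = 8 ∨ r = 9 ∨ r = 10 ∨ r = 11 := by omega
        rcases h11 with rfl | rfl | rfl | rfl
        · exact absurd hr (by norm_num)
        · exact absurd hr (by norm_num)
        · exact absurd hr (by norm_num)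
        · rcases hc with rfl | rfl | rfl | rfl <;> omega)
  refine ⟨h1, fun r hr hbd => ?_⟩
  have hrp : r.Prime := by
    have := List.all_eq_true.1 exl_prime _ hr
    simpa using this
  obtain ⟨h3, h4⟩ := hpr r hrp (h2 r hr)
  exact key r h3 h4 (Or.inr fun k hk hkd => bdk_spec hbd hk (hkd.trans hdB))

/-- a normal elementary abelian subgroup is centralised by both classes -/
theorem z_both (hp : p.Prime) (hf : 1 ≤ f) [CharP F p] (hq : Fintype.card F = p ^ f)
    (hdT : Nat.card ↥(Lie.chevE7.group F) ∣ OL .E7 (p ^ f)) {c c' : ℕ} (hcc : (c, c') ∈ prs5)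
    {B : Subgroup ↥(Lie.chevE7.group F)} (h : HAt p f c B) (h' : HAt p f c' B) {t : ℕ} (ht : t.Prime) (htp : t ≠ p)
    (htc : ¬ Prim p (f * c) t) (htc' : ¬ Prim p (f * c') t) {A : Subgroup B} (hAn : A.Normal)
    (hA : ∀ a ∈ A, ∀ b ∈ A, a * b = b * a) (hAt : ∀ a ∈ A, a ^ t = 1) {a : B} (haA : a ∈ A) (hat : orderOf a = t) :
    Zc (p ^ f) c A ∧ Zc (p ^ f) c' A := by
  have hfin : Finite ↥(Lie.chevE7.group F) := inferInstance
  have hcm : (c = 7 ∨ c = 9 ∨ c = 14 ∨ c = 18) ∧ (c' = 7 ∨ c' = 9 ∨ c' = 14 ∨ c' = 18) := by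
    have h1 : ∀ x ∈ prs5, (x.1 = 7 ∨ x.1 = 9 ∨ x.1 = 14 ∨ x.1 = 18) ∧ (x.2 = 7 ∨ x.2 = 9 ∨ x.2 = 14 ∨ x.2 = 18) := by
      decide
    exact h1 _ hcc
  obtain ⟨hc, hc'⟩ := hcm
  have htB : t ∣ Nat.card B := hat ▸ orderOf_dvd_natCard a
  have htO : t ∣ OL .E7 (p ^ f) := (htB.trans (Subgroup.card_subgroup_dvd_card B)).trans hdT
  have hck := List.all_eq_true.1 ck_all _ hcc
  simp only [Bool.and_eq_true] at hck
  obtain ⟨⟨k1, k2⟩, k3⟩ := hck
  -- one class centralises, the other not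
  have key : ∀ {e e' : ℕ}, (e = 7 ∨ e = 9 ∨ e = 14 ∨ e = 18) → (e' = 7 ∨ e' = 9 ∨ e' = 14 ∨ e' = 18) →
      ck1 e e' = true → ¬ Prim p (f * e') t → Zc (p ^ f) e' A →
      ((∃ r, (f * e, p, r) ∈ exl) ∧ ∀ r, (f * e, p, r) ∈ exl → ¬ Bdk r t (p ^ f) = true) → False := by
    rintro e e' he he' hk hte hZ ⟨⟨r, hr⟩, hbd⟩
    have he0 : 0 < e := by omega
    have h1 := List.all_eq_true.1 hk _ hr
    have h2 : f * e % e = 0 := Nat.mul_mod_left f e
    have h3 : f * e / e = f := Nat.mul_div_cancel f he0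
    simp only [h2, h3, beq_self_eq_true, Bool.not_true, Bool.false_or, Bool.and_eq_true, beq_iff_eq,
      List.all_eq_true, Bool.or_eq_true, Bool.not_eq_true', beq_eq_false_iff_ne] at h1
    obtain ⟨⟨⟨a1, a2⟩, a3⟩, a4⟩ := h1
    have h4 := zc_dvd he' hq haA hat hZ
    rw [a2] at h4
    have hfe : 1 * e' ≤ f * e' := Nat.mul_le_mul_right _ hf
    have hP : ¬ t ∣ pc p (f * e') := by
      rw [← PP_eq (by simpa [okk] using a1) hp.two_le]
      exact fun h => hte (prim_of_dvd_PP hp.two_le (by omega) ht h)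
    have h5 := (ht.dvd_mul.1 h4).resolve_right hP
    have h6 := mem_of_dvd_psp ht a3 h5
    rcases a4 t h6 with h7 | h7
    · exact h7 (Nat.mod_eq_zero_of_dvd h5)
    · unfold Bde at h7
      rw [List.any_eq_true] at h7
      obtain ⟨⟨k, p', r'⟩, hy, h8⟩ := h7
      simp only [Bool.and_eq_true, beq_iff_eq] at h8
      obtain ⟨⟨rfl, rfl⟩, h9⟩ := h8
      exact hbd _ hy h9
  rcases z_or hp hf hq hdT hc h ht htp htc hAn hA hAt with z | z
  · refine ⟨z, ?_⟩
    rcases z_or hp hf hq hdT hc' h' ht htp htc' hAn hA hAt with z' | z'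
    · exact z'
    · exact (key hc' hc k2 htc z z').elim
  · exfalso
    rcases z_or hp hf hq hdT hc' h' ht htp htc' hAn hA hAt with z' | z'
    · exact key hc hc' k1 htc' z' z
    · obtain ⟨⟨r, hr⟩, hbd⟩ := z
      obtain ⟨⟨r', hr'⟩, hbd'⟩ := z'
      have h1 := List.all_eq_true.1 (List.all_eq_true.1 k3 _ hr) _ hr'
      have hc0 : 0 < c := by omega
      have hc0' : 0 < c' := by omega
      have b1 : f * c % c = 0 := Nat.mul_mod_left f c
      have b2 : f * c' % c' = 0 := Nat.mul_mod_left f c'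
      have b3 : f * c / c = f := Nat.mul_div_cancel f hc0
      have b4 : f * c' / c' = f := Nat.mul_div_cancel f hc0'
      simp only [b1, b2, b3, b4, beq_self_eq_true, Bool.and_self, Bool.not_true, Bool.false_or, Bool.and_eq_true,
        beq_iff_eq, List.all_eq_true, Bool.or_eq_true, Bool.not_eq_true', beq_eq_false_iff_ne] at h1
      obtain ⟨⟨⟨a1, a1'⟩, a2⟩, a3⟩ := h1
      have hfe : 1 * c ≤ f * c := Nat.mul_le_mul_right _ hf
      have hfe' : 1 * c' ≤ f * c' := Nat.mul_le_mul_right _ hf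
      have hmem := mem_of_dvd_psp ht a2 htO
      rcases a3 t hmem with ((((h2 | h2) | h2) | h2) | h2) | h2
      · exact h2 (Nat.mod_eq_zero_of_dvd htO)
      · exact htp h2
      · refine htc (prim_of_dvd_PP hp.two_le (by omega) ht ?_)
        rw [PP_eq (by simpa [okk] using a1) hp.two_le]
        exact Nat.dvd_of_mod_eq_zero h2
      · refine htc' (prim_of_dvd_PP hp.two_le (by omega) ht ?_)
        rw [PP_eq (by simpa [okk] using a1') hp.two_le]
        exact Nat.dvd_of_mod_eq_zero h2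
      · unfold Bde at h2
        rw [List.any_eq_true] at h2
        obtain ⟨⟨k, p', r'⟩, hy, h8⟩ := h2
        simp only [Bool.and_eq_true, beq_iff_eq] at h8
        obtain ⟨⟨rfl, rfl⟩, h9⟩ := h8
        exact hbd _ hy h9
      · unfold Bde at h2
        rw [List.any_eq_true] at h2
        obtain ⟨⟨k, p', r'⟩, hy, h8⟩ := h2
        simp only [Bool.and_eq_true, beq_iff_eq] at h8
        obtain ⟨⟨rfl, rfl⟩, h9⟩ := h8
        exact hbd' _ hy h9

/-- both classes cannot centralise an element -/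
theorem no_z_both (hp : p.Prime) (hq : Fintype.card F = p ^ f) {c c' : ℕ} (hcc : (c, c') ∈ prs5)
    {B : Subgroup ↥(Lie.chevE7.group F)} {t : ℕ} (ht : t.Prime) (htp : t ≠ p) {A : Subgroup B} {a : B} (haA : a ∈ A)
    (hat : orderOf a = t) (h : Zc (p ^ f) c A) (h' : Zc (p ^ f) c' A) : False := by
  have hq1 : 1 ≤ p ^ f := Nat.one_le_pow _ _ hp.pos
  have hcm : ((c = 7 ∨ c = 9) ∧ (c' = 14 ∨ c' = 18)) ∨ ((c' = 7 ∨ c' = 9) ∧ (c = 14 ∨ c = 18)) ∨ (c = 18 ∧ c' = 14) := by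
    have h1 : ∀ x ∈ prs5, ((x.1 = 7 ∨ x.1 = 9) ∧ (x.2 = 14 ∨ x.2 = 18)) ∨ ((x.2 = 7 ∨ x.2 = 9) ∧ (x.1 = 14 ∨ x.1 = 18)) ∨
      (x.1 = 18 ∧ x.2 = 14) := by decide
    exact h1 _ hcc
  have ht2 : t = 2 → Odd (p ^ f) := by
    rintro rfl
    rw [← Nat.not_even_iff_odd, Nat.even_pow]
    rintro ⟨h1, -⟩
    exact htp ((Nat.prime_dvd_prime_iff_eq Nat.prime_two hp).1 h1.two_dvd)
  rcases hcm with ⟨hc, hc'⟩ | ⟨hc', hc⟩ | ⟨rfl, rfl⟩
  · exact nb hq1 ht hc hc' ht2 (zc_dvd (by omega) hq haA hat h) (zc_dvd (by omega) hq haA hat h')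
  · exact nb hq1 ht hc' hc ht2 (zc_dvd (by omega) hq haA hat h') (zc_dvd (by omega) hq haA hat h)
  · have htq := add_of_both hq1 ht (zc_dvd (by omega) hq haA hat h') (zc_dvd (by omega) hq haA hat h)
    obtain ⟨r, hr, z, hz, hcz⟩ := h'
    obtain ⟨s, hs, w, hw, hcw⟩ := h
    refine Cfsg.Agent.H129.E7Common.e7_no_common (F := F) (t := t) (r := r) (s := s)
      (a := (a : ↥(Lie.chevE7.group F))) (x := z) (y := w) ht (by rw [hq]; exact htq) (by rw [hq]; exact hr)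
      (by rw [hq]; exact hs) (by rw [Subgroup.orderOf_coe]; exact hat) (by rw [Subgroup.orderOf_coe]; exact hz)
      (by rw [Subgroup.orderOf_coe]; exact hw) ?_ ?_
    · exact congrArg Subtype.val (hcz a haA).symm
    · exact congrArg Subtype.val (hcw a haA).symm

/-- **Reducedness.** -/
theorem red7 (hcyc : CycFixSolv.{0}) (hp : p.Prime) (hf : 1 ≤ f) [CharP F p] (hq : Fintype.card F = p ^ f)
    (hdT : Nat.card ↥(Lie.chevE7.group F) ∣ OL .E7 (p ^ f)) {c c' : ℕ} (hcc : (c, c') ∈ prs5)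
    {B : Subgroup ↥(Lie.chevE7.group F)} (h : HAt p f c B) (h' : HAt p f c' B)
    {c₀ r₀ : ℕ} (hc₀ : c₀ ∈ [c, c']) (hr₀ : Prim p (f * c₀) r₀) (hpiso : PIso p r₀ ↥(Lie.chevE7.group F))
    (hr₀B : r₀ ∣ Nat.card B) :
    Red ↥B (Pr (FmH p f [c, c'] (M7 (p ^ f)) E7 (Nat.card B))) := by
  intro N hN hNr
  by_contra hne
  have hfin : Finite ↥(Lie.chevE7.group F) := inferInstance
  have := Fact.mk hr₀.prime
  have := Fact.mk hp
  have hcm : (c = 7 ∨ c = 9 ∨ c = 14 ∨ c = 18) ∧ (c' = 7 ∨ c' = 9 ∨ c' = 14 ∨ c' = 18) := by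
    have h1 : ∀ x ∈ prs5, (x.1 = 7 ∨ x.1 = 9 ∨ x.1 = 14 ∨ x.1 = 18) ∧ (x.2 = 7 ∨ x.2 = 9 ∨ x.2 = 14 ∨ x.2 = 18) := by
      decide
    exact h1 _ hcc
  have hc₀m : c₀ = 7 ∨ c₀ = 9 ∨ c₀ = 14 ∨ c₀ = 18 := by
    simp only [List.mem_cons, List.not_mem_nil, or_false] at hc₀
    rcases hc₀ with rfl | rfl
    · exact hcm.1
    · exact hcm.2
  have hPr : Pr (FmH p f [c, c'] (M7 (p ^ f)) E7 (Nat.card B)) r₀ := pr_fmH.2 ⟨c₀, hc₀, hr₀, hr₀B⟩
  -- `N` is solvable
  have hsolv : Group.IsSolvable N := by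
    obtain ⟨x, hx⟩ := exists_prime_orderOf_dvd_card' r₀ hr₀B
    apply hcyc N (MulAut.conjNormal (H := N) x) r₀ hr₀.prime _ (hNr r₀ hPr)
    · refine ⟨(Subgroup.centralizer {x}).comap N.subtype, ?_, fun a ha => ?_⟩
      · have := ((big7 (F := F) hc₀m hq (prim_q hf hr₀)).subgroup B).cyc x hx
        let g : ↥((Subgroup.centralizer {x}).comap N.subtype) →* ↥(Subgroup.centralizer {x}) :=
          (N.subtype.comp ((Subgroup.centralizer {x}).comap N.subtype).subtype).codRestrict _ fun y => y.2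
        exact isCyclic_of_injective g fun a b hab => by
          have h3 : ((a : N) : B) = ((b : N) : B) :=
            congrArg (fun z : ↥(Subgroup.centralizer {x}) => (z : B)) hab
          exact Subtype.ext (Subtype.ext h3)
      · rw [Subgroup.mem_comap, Subgroup.mem_centralizer_singleton_iff]
        have h2 := congrArg Subtype.val ha
        rw [MulAut.conjNormal_apply, mul_inv_eq_iff_eq_mul] at h2
        exact h2.symm
    · rw [← map_pow, ← hx, pow_orderOf_eq_one, map_one]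
  obtain ⟨t, ht, A, hAn, hAN, hA0, hAc, hAt⟩ := exists_elem' hN hsolv hne
  have hPt : IsPGroup t A := fun a => ⟨1, by rw [pow_one]; exact Subtype.ext (hAt a a.2)⟩
  have := Fact.mk ht
  obtain ⟨k, hk⟩ := IsPGroup.iff_card.1 hPt
  have hk0 : k ≠ 0 := by
    rintro rfl
    rw [pow_zero, Subgroup.card_eq_one] at hk
    exact hA0 hk
  have htN : t ∣ Nat.card N := (hk ▸ dvd_pow_self t hk0 : t ∣ Nat.card A).trans (Subgroup.card_dvd_of_le hAN)
  have htp : t ≠ p := by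
    rintro rfl
    exact hA0 (pcore_of_piso (hpiso.sub B) hr₀B A hAn hPt)
  have hnp : ∀ e ∈ [c, c'], ¬ Prim p (f * e) t := fun e he hpe =>
    hNr t (pr_fmH.2 ⟨e, he, hpe, htN.trans (Subgroup.card_subgroup_dvd_card N)⟩) htN
  obtain ⟨a, haA, ha1⟩ : ∃ a ∈ A, a ≠ 1 := by
    by_contra hcon
    push Not at hcon
    exact hA0 ((Subgroup.eq_bot_iff_forall A).2 hcon)
  have hat : orderOf a = t := orderOf_eq_prime (hAt a haA) ha1
  obtain ⟨z, z'⟩ := z_both hp hf hq hdT hcc h h' ht htp (hnp c (by simp)) (hnp c' (by simp)) hAn hAc hAt haA hat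
  exact no_z_both hp hq hcc ht htp haA hat z z'

end

end Cfsg.Agent.H95.Rg
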